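import Mathlib.AlgebraicGeometry.Noetherian
import Mathlib.AlgebraicGeometry.Fiber
import Groth.Agent.PerfB.AffHom
import Groth.Agent.CycB.RelDim3
import Groth.Agent.CycB.DimIneq

/-!
# Maximal points, dense opens, and fibres of birational morphisms over points of codimension at most one
-/

set_option autoImplicit false
universe u
open CategoryTheory CategoryTheory.Limits AlgebraicGeometry Opposite TopologicalSpace

namespace K782.GenPt

variable {X : Scheme.{u}}

/-- Every point is a specialization of a maximal point. -/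
theorem exists_maximal (x : X) : ∃ ζ : X, ζ ⤳ x ∧ ∀ ζ' : X, ζ' ⤳ ζ → ζ' = ζ := by
  have hZ := irreducibleComponent_mem_irreducibleComponents x
  obtain ⟨ζ, hζ⟩ := QuasiSober.sober hZ.1 (isClosed_of_mem_irreducibleComponents _ hZ)
  have hd := hζ.def
  refine ⟨ζ, ?_, fun ζ' h => ?_⟩
  · rw [specializes_iff_mem_closure, hd]
    exact mem_irreducibleComponent
  · have h1 : closure {ζ} ⊆ closure {ζ'} := specializes_iff_closure_subset.mp h
    rw [hd] at h1
    have h2 := hZ.2 (isIrreducible_singleton.closure : IsIrreducible (closure {ζ'})) h1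
    rw [← hd] at h2
    exact (h.antisymm (specializes_iff_closure_subset.mpr h2)).eq

/-- A Noetherian sober space: a dense open contains the maximal points. -/
theorem mem_of_dense_aux {T : Type*} [TopologicalSpace T] [NoetherianSpace T] [QuasiSober T] [T0Space T]
    (U : Set T) (hUo : IsOpen U) (hU : Dense U) (ζ : T) (hζ : ∀ ζ' : T, ζ' ⤳ ζ → ζ' = ζ) : ζ ∈ U := by
  have hfin : (irreducibleComponents T).Finite := NoetherianSpace.finite_irreducibleComponents
  let S : Set (Set T) := {Z ∈ irreducibleComponents T | ζ ∉ Z}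
  have hS : S.Finite := hfin.subset fun Z hZ => hZ.1
  have hC : IsClosed (⋃₀ S) := by
    rw [Set.sUnion_eq_biUnion]
    exact hS.isClosed_biUnion fun Z hZ => isClosed_of_mem_irreducibleComponents Z hZ.1
  have hζC : ζ ∈ (⋃₀ S)ᶜ := by
    rintro ⟨Z, hZ, hζZ⟩
    exact hZ.2 hζZ
  obtain ⟨u, hu, huU⟩ := hU.inter_open_nonempty _ hC.isOpen_compl ⟨ζ, hζC⟩
  have h1 : ζ ∈ irreducibleComponent u := by
    by_contra h
    exact hu ⟨_, ⟨irreducibleComponent_mem_irreducibleComponents u, h⟩, mem_irreducibleComponent⟩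
  obtain ⟨g, hg⟩ := QuasiSober.sober (irreducibleComponent_mem_irreducibleComponents u).1
    isClosed_irreducibleComponent
  have h2 : g = ζ := hζ g (by rw [specializes_iff_mem_closure, hg.def]; exact h1)
  have h3 : ζ ⤳ u := by
    rw [← h2, specializes_iff_mem_closure, hg.def]
    exact mem_irreducibleComponent
  exact h3.mem_open hUo huU

/-- On a locally Noetherian scheme a dense open contains the maximal points. -/
theorem mem_of_dense [IsLocallyNoetherian X] (U : X.Opens) (hU : Dense (U : Set X)) (ζ : X)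
    (hζ : ∀ ζ' : X, ζ' ⤳ ζ → ζ' = ζ) : ζ ∈ U := by
  obtain ⟨W, hW, hζW, -⟩ := Groth.Agent.PerfB.AffHom.exists_affine_le (X := X) ⊤ (x := ζ) trivial
  have : IsNoetherianRing Γ(X, W) := IsLocallyNoetherian.component_noetherian ⟨W, hW⟩
  have : NoetherianSpace W := noetherianSpace_of_isAffineOpen W hW
  have : QuasiSober (W : Scheme.{u}) := inferInstance
  refine mem_of_dense_aux (T := (W : Scheme.{u})) (W.ι ⁻¹ᵁ U : Set W) (W.ι ⁻¹ᵁ U).isOpen ?_ ⟨ζ, hζW⟩ ?_
  · exact hU.preimage W.ι.isOpenEmbedding.isOpenMap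
  · intro ζ' h
    exact Subtype.ext (hζ ζ'.1 (h.map W.ι.continuous))

/-- If `U` is a dense open of a locally Noetherian scheme then every point is a specialization of a maximal
point, which lies in `U`. -/
theorem exists_mem_of_dense [IsLocallyNoetherian X] (U : X.Opens) (hU : Dense (U : Set X)) (x : X) :
    ∃ ζ ∈ U, ζ ⤳ x ∧ ∀ ζ' : X, ζ' ⤳ ζ → ζ' = ζ := by
  obtain ⟨ζ, h1, h2⟩ := exists_maximal x
  exact ⟨ζ, mem_of_dense U hU ζ h2, h1, h2⟩

/-- The stalk map of a morphism which is an isomorphism over an open, at a point over that open. -/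
theorem isIso_stalkMap {X Y : Scheme.{u}} (f : X ⟶ Y) (V : Y.Opens) [IsIso (f ∣_ V)] (x : X)
    (hx : f x ∈ V) : IsIso (f.stalkMap x) := by
  have h0 : IsOpenImmersion (f ∣_ V) := inferInstance
  have h1 : IsIso ((f ∣_ V).stalkMap ⟨x, hx⟩) := inferInstance
  have h2 := (MorphismProperty.arrow_mk_iso_iff (MorphismProperty.isomorphisms CommRingCat.{u})
    (morphismRestrictStalkMap f V ⟨x, hx⟩)).1 h1
  exact h2

open Groth.Agent.CycB Groth.Agent.CycB.RelDim in
/-- `κ(f ζ) → κ(ζ)` has transcendence degree `0` at the points over an open over which `f` is an isomorphism. -/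
theorem rtd_eq_zero {Y : Scheme.{u}} (f : Y ⟶ X) (U : X.Opens) (hiso : IsIso (f ∣_ U)) (ζ : Y)
    (hζ : f ζ ∈ U) : rtd f ζ = 0 := by
  refine rtd_eq_zero_of_surjective f ζ (residueFieldMap_surjective_of_stalkMap f ζ ?_)
  have := isIso_stalkMap f U ζ hζ
  exact ((ConcreteCategory.isIso_iff_bijective _).mp this).2

open Groth.Agent.CycB in
/-- The local ring at `x` of the closure of `ζ` has positive dimension if `ζ ≠ x`. -/
theorem one_le_of_ne {x ζ : X} (h : ζ ⤳ x) (hne : ζ ≠ x) (d : ℕ)
    (hd : ringKrullDim (Cyc.LocQuot x ζ h) = d) : 1 ≤ d := by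
  by_contra h0
  obtain rfl : d = 0 := by omega
  obtain ⟨U, hU, hxU, -⟩ := Groth.Agent.PerfB.AffHom.exists_affine_le (X := X) ⊤ (x := x) trivial
  have hζU : ζ ∈ U := h.mem_open U.isOpen hxU
  rw [DimIneq.ringKrullDim_locQuot_eq_height hU h hxU hζU] at hd
  have hpr : (RingHom.ker (DimIneq.evQuot U h hxU hζU)).IsPrime := RingHom.ker_isPrime _
  have h1 : (RingHom.ker (DimIneq.evQuot U h hxU hζU)).height = 0 := by exact_mod_cast hd
  have hpr' : (RingHom.ker (X.evaluation U ζ hζU).hom).IsPrime := RingHom.ker_isPrime _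
  rw [Ideal.height_eq_zero_iff_eq_bot] at h1
  apply hne
  refine RelDim.primeIdealOf_inj hU hxU hζU (PrimeSpectrum.ext ?_)
  rw [← RelDim.ker_evaluation hU ζ hζU, ← RelDim.ker_evaluation hU x hxU]
  refine le_antisymm (DimIneq.ker_evaluation_le h hxU hζU) fun s hs => ?_
  have h2 : Ideal.Quotient.mk (RingHom.ker (X.evaluation U ζ hζU).hom) s ∈
      RingHom.ker (DimIneq.evQuot U h hxU hζU) := hs
  rw [h1] at h2
  exact Ideal.Quotient.eq_zero_iff_mem.mp h2

open Groth.Agent.CycB Groth.Agent.CycB.RelDim in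
/-- Over a point of codimension at most one of the target of a birational morphism of finite type, the
residue field extensions are algebraic. -/
theorem rtd_eq_zero_of_codim_le_one [IsLocallyNoetherian X] {Y : Scheme.{u}} (f : Y ⟶ X)
    [LocallyOfFiniteType f] (U : X.Opens) (hU' : Dense ((f ⁻¹ᵁ U : Y.Opens) : Set Y))
    (hiso : IsIso (f ∣_ U)) (y : Y) (hx : ringKrullDim (X.presheaf.stalk (f y)) ≤ 1) : rtd f y = 0 := by
  have : IsLocallyNoetherian Y := LocallyOfFiniteType.isLocallyNoetherian f
  obtain ⟨ζ, hζU, hζ, -⟩ := exists_mem_of_dense (f ⁻¹ᵁ U) hU' y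
  by_cases hne : ζ = y
  · subst hne
    exact rtd_eq_zero f U hiso ζ hζU
  obtain ⟨dX, dY, h1, h2, h3⟩ := DimIneq.dim_ineq f hζ
  have h4 : 1 ≤ dX := one_le_of_ne hζ hne dX h1
  have h5 : dY ≤ 1 := by
    have := (ringKrullDim_quotient_le (RingHom.ker (Cyc.specMap (f y) (f ζ) (hζ.map f.continuous)))).trans hx
    rw [h2] at this
    exact_mod_cast this
  have h6 : DimIneq.td (f.residueFieldMap ζ).hom = 0 := rtd_eq_zero f U hiso ζ hζU
  rw [h6, add_zero] at h3
  have h7 : (dX : Cardinal.{u}) + rtd f y ≤ (dY : Cardinal.{u}) := h3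
  have h8 : rtd f y < Cardinal.aleph0 := rtd_lt_aleph0 f y
  obtain ⟨n, hn⟩ := Cardinal.lt_aleph0.mp h8
  rw [hn] at h7 ⊢
  have h9 : dX + n ≤ dY := by exact_mod_cast h7
  have : n = 0 := by omega
  simp [this]

open Groth.Agent.CycB Groth.Agent.CycB.RelDim in
/-- Finite fibres over points of codimension at most one. -/
theorem finite_fiber [IsLocallyNoetherian X] {Y : Scheme.{u}} (f : Y ⟶ X)
    [LocallyOfFiniteType f] [QuasiCompact f] (U : X.Opens) (hU' : Dense ((f ⁻¹ᵁ U : Y.Opens) : Set Y))
    (hiso : IsIso (f ∣_ U)) (x : X) (hx : ringKrullDim (X.presheaf.stalk x) ≤ 1) :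
    (f.base ⁻¹' {x}).Finite := by
  have h1 : LocallyOfFiniteType (f.fiberToSpecResidueField x) :=
    inferInstanceAs (LocallyOfFiniteType (pullback.snd _ _))
  have h2 : QuasiCompact (f.fiberToSpecResidueField x) := inferInstance
  have h3 : IsLocallyNoetherian (f.fiber x) := LocallyOfFiniteType.isLocallyNoetherian (f.fiberToSpecResidueField x)
  have h4 : CompactSpace (f.fiber x) := inferInstance
  have h5 : IsNoetherian (f.fiber x) := {}
  have h6 : (irreducibleComponents (f.fiber x)).Finite := NoetherianSpace.finite_irreducibleComponents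
  have key : ∀ y : Y, f y = x → FibGeneric f y := by
    intro y hy y' hy' hs
    by_contra hne
    have h7 := rtd_lt_of_specializes f hs hne hy'
    rw [rtd_eq_zero_of_codim_le_one f U hU' hiso y (by rw [hy]; exact hx),
      rtd_eq_zero_of_codim_le_one f U hU' hiso y' (by rw [hy', hy]; exact hx)] at h7
    exact lt_irrefl _ h7
  have h8 : Finite (f.fiber x) := by
    have := h6.to_subtype
    have h9 : ∀ z : f.fiber x, closure {z} ∈ irreducibleComponents (f.fiber x) := by
      intro z
      have hz : f (f.fiberι x z) = x := by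
        have : f.fiberι x z ∈ Set.range (f.fiberι x) := ⟨z, rfl⟩
        rw [Scheme.Hom.range_fiberι] at this
        exact this
      refine ⟨isIrreducible_singleton.closure, fun S hS hle => ?_⟩
      obtain ⟨s, hs⟩ := QuasiSober.sober hS.closure isClosed_closure
      have hsz : s ⤳ z := by
        rw [specializes_iff_mem_closure, hs.def]
        exact subset_closure (hle (subset_closure rfl))
      have hs' : f (f.fiberι x s) = x := by
        have : f.fiberι x s ∈ Set.range (f.fiberι x) := ⟨s, rfl⟩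
        rw [Scheme.Hom.range_fiberι] at this
        exact this
      have h10 := key _ hz _ (hs'.trans hz.symm) (hsz.map (f.fiberι x).continuous)
      have h11 : s = z := (f.fiberι x).isEmbedding.injective h10
      rw [← h11, hs.def]
      exact subset_closure
    refine Finite.of_injective (fun z => (⟨closure {z}, h9 z⟩ : irreducibleComponents (f.fiber x))) ?_
    intro z z' hzz
    have h12 : closure {z} = closure {z'} := congrArg Subtype.val hzz
    exact (specializes_iff_closure_subset.mpr h12.ge).antisymm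
      (specializes_iff_closure_subset.mpr h12.le) |>.eq
  have h13 : f.base ⁻¹' {x} = Set.range (f.fiberι x) := by
    rw [Scheme.Hom.range_fiberι]
  rw [h13]
  exact Set.finite_range _

end K782.GenPt
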