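import Groth.Agent.ResProp.K782.PowRange

/-!
# Descending an ample module along a finite morphism which is an isomorphism over an open
-/

set_option autoImplicit false
universe u
open CategoryTheory CategoryTheory.Limits AlgebraicGeometry Opposite TopologicalSpace
open Groth.Agent.Fdesc Groth.Agent.Fdesc.LocGen

namespace K782.AmpleGlue

open K782.GlueInv

variable {Y V : Scheme.{u}}

theorem isIso_restrict_of_le (f : Y ⟶ V) (U : V.Opens) (hU : IsIso (f ∣_ U)) (W : V.Opens) (hW : W ≤ U) :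
    IsIso (f ∣_ W) := by
  have h1 : IsIso ((f ∣_ U) ∣_ (U.ι ⁻¹ᵁ W)) := inferInstance
  have h2 : U.ι ''ᵁ (U.ι ⁻¹ᵁ W) = W := by
    rw [Scheme.Hom.image_preimage_eq_opensRange_inf, Scheme.Opens.opensRange_ι]
    exact inf_eq_right.mpr hW
  have h3 := (MorphismProperty.arrow_mk_iso_iff (MorphismProperty.isomorphisms Scheme.{u})
    (morphismRestrictRestrict f U (U.ι ⁻¹ᵁ W))).1 h1
  have h4 : IsIso (f ∣_ (U.ι ''ᵁ (U.ι ⁻¹ᵁ W))) := h3
  rwa [h2] at h4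

theorem bijective_app (f : Y ⟶ V) (U : V.Opens) (hU : IsIso (f ∣_ U)) (W : V.Opens) (hW : W ≤ U) :
    Function.Bijective (f.app W) := by
  have h1 := isIso_restrict_of_le f U hU W hW
  have h2 : IsIso ((f ∣_ W).app (W.ι ⁻¹ᵁ W)) := inferInstance
  rw [morphismRestrict_app] at h2
  have h3 : IsIso (f.app (W.ι ''ᵁ (W.ι ⁻¹ᵁ W))) := (isIso_comp_right_iff _
    (Y.presheaf.map (eqToHom (image_morphismRestrict_preimage f W (W.ι ⁻¹ᵁ W))).op)).mp h2
  have h4 : W.ι ''ᵁ (W.ι ⁻¹ᵁ W) = W := by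
    rw [Scheme.Hom.image_preimage_eq_opensRange_inf, Scheme.Opens.opensRange_ι, inf_idem]
  rw [h4] at h3
  exact (ConcreteCategory.isIso_iff_bijective _).mp h3

theorem isAffineOpen_of_preimage (f : Y ⟶ V) (U : V.Opens) (hU : IsIso (f ∣_ U)) (W : V.Opens) (hW : W ≤ U)
    (h : IsAffineOpen (f ⁻¹ᵁ W)) : IsAffineOpen W := by
  have h1 := isIso_restrict_of_le f U hU W hW
  have : IsAffine (f ⁻¹ᵁ W : Y.Opens) := h
  exact IsAffine.of_isIso (inv (f ∣_ W))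

section

variable {f : Y ⟶ V} {M : Y.Modules} {ι : Type u} (D : Desc f M ι)

theorem exists_section_pow {L : V.Modules} {ε : ∀ i, Γ(L, D.U i)} {g : ∀ i j, Γ(V, D.U i ⊓ D.U j)}
    (hε : ∀ i, IsGen (ε i)) (h0 : ∀ i, g i i = 1)
    (h1 : ∀ i j, res L (inf_le_left : D.U i ⊓ D.U j ≤ D.U i) (ε i) =
      g i j • res L (inf_le_right : D.U i ⊓ D.U j ≤ D.U j) (ε j)) {k : ℕ}
    (s' : Coh.structureModule Y ⟶ CohB1.tensorPow M k) (c' : ∀ i, Γ(Y, f ⁻¹ᵁ D.U i))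
    (hs' : ∀ i, sec s' (f ⁻¹ᵁ D.U i) = c' i • LocGen.pow (D.e i) k)
    (hc' : ∀ i j, ores (f.preimage_mono (inf_le_left : D.U i ⊓ D.U j ≤ D.U i)) (c' i) *
        (f.app (D.U i ⊓ D.U j) (g i j)) ^ k =
          ores (f.preimage_mono (inf_le_right : D.U i ⊓ D.U j ≤ D.U j)) (c' j)) (N : ℕ)
    (hN : ∀ i, ∃ t : Γ(V, D.U i), f.app (D.U i) t = c' i ^ (N + 1)) :
    ∃ s : Coh.structureModule V ⟶ CohB1.tensorPow L (k * (N + 1)),
      f ⁻¹ᵁ CohB1.genLocus _ s = CohB1.genLocus _ s' := by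
  choose c hc using hN
  obtain ⟨s, hs⟩ := exists_section D h0 h1 (k * (N + 1)) c (fun i j => by
    rw [hc, hc, map_pow, map_pow, pow_mul, ← mul_pow, hc'])
  refine ⟨s, ?_⟩
  have key : ∀ i, f ⁻¹ᵁ CohB1.genLocus _ s ⊓ f ⁻¹ᵁ D.U i = CohB1.genLocus _ s' ⊓ f ⁻¹ᵁ D.U i := by
    intro i
    rw [genLocus_inf_eq s' ((D.gen i).pow k) (hs' i)]
    have e1 := genLocus_inf_eq s ((hε i).pow _) (hs i)
    have e2 : f ⁻¹ᵁ (CohB1.genLocus _ s ⊓ D.U i) = f ⁻¹ᵁ V.basicOpen (c i) := by rw [e1]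
    rw [Scheme.preimage_basicOpen, hc, Scheme.basicOpen_pow _ _ (Nat.succ_pos N)] at e2
    exact e2
  have hcov : ⨆ i, f ⁻¹ᵁ D.U i = ⊤ := by
    rw [← Scheme.Hom.preimage_iSup, D.cover]
    rfl
  have h5 : ∀ W : Y.Opens, W = ⨆ i, W ⊓ f ⁻¹ᵁ D.U i := fun W => by
    rw [← inf_iSup_eq, hcov, inf_top_eq]
  rw [h5 (f ⁻¹ᵁ CohB1.genLocus _ s), h5 (CohB1.genLocus _ s')]
  exact iSup_congr key

end

theorem exists_gen_nhd (f : Y ⟶ V) {M : Y.Modules} (hM : PicF.IsInvertible M) (U : V.Opens)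
    (hU : IsIso (f ∣_ U)) (p : V) (hp : p ∈ U) :
    ∃ (W : V.Opens) (e : Γ(M, f ⁻¹ᵁ W)), p ∈ W ∧ W ≤ U ∧ IsGen e := by
  let g := inv (f ∣_ U)
  obtain ⟨O, e, hy, he⟩ := (isInvertible_iff M).1 hM (g ⟨p, hp⟩).1
  let W : V.Opens := U.ι ''ᵁ (g ⁻¹ᵁ ((f ⁻¹ᵁ U).ι ⁻¹ᵁ O))
  have hW : f ⁻¹ᵁ W ≤ O := by
    rintro z ⟨q, hq, hqz⟩
    have hzU : f z ∈ U := by
      rw [← hqz]
      exact q.2
    have h1 : q = (f ∣_ U) ⟨z, hzU⟩ := by
      apply U.ι.isOpenEmbedding.injective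
      rw [← Scheme.Hom.comp_apply, morphismRestrict_ι, Scheme.Hom.comp_apply]
      exact hqz
    have h2 : g q = (⟨z, hzU⟩ : (f ⁻¹ᵁ U : Y.Opens)) := by
      rw [h1, ← Scheme.Hom.comp_apply, IsIso.hom_inv_id]
      rfl
    have h3 : (g q).1 ∈ O := hq
    rwa [h2] at h3
  exact ⟨W, res M hW e, ⟨⟨p, hp⟩, hy, rfl⟩, by
    rintro _ ⟨q, -, rfl⟩
    exact q.2, he.res hW⟩

/-- The gluing datum of a module over an open over which the morphism is an isomorphism and generators over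
further opens. -/
noncomputable def mkDesc (f : Y ⟶ V) (M : Y.Modules) (U : V.Opens) (hU : IsIso (f ∣_ U)) {J K : Type u}
    (G : J → V.Opens) (hGG : ∀ i j, i ≠ j → G i ⊓ G j ≤ U) (w : ∀ j, Γ(M, f ⁻¹ᵁ G j))
    (hw : ∀ j, IsGen (w j)) (W : K → V.Opens) (hWU : ∀ k, W k ≤ U) (e : ∀ k, Γ(M, f ⁻¹ᵁ W k))
    (he : ∀ k, IsGen (e k)) (hcov : (⨆ j, G j) ⊔ ⨆ k, W k = ⊤) : Desc f M (J ⊕ K) where
  U := Sum.elim G W
  cover := by rw [iSup_sum]; exact hcov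
  e := fun i => match i with | .inl j => w j | .inr k => e k
  gen := by rintro (j | k); exacts [hw j, he k]
  bij := by
    intro i j hij W' hW'
    refine bijective_app f U hU W' (hW'.trans ?_)
    rcases i with i | i <;> rcases j with j | j
    · exact hGG i j (fun h => hij (by rw [h]))
    · exact inf_le_right.trans (hWU j)
    · exact inf_le_left.trans (hWU i)
    · exact inf_le_left.trans (hWU i)

/-- Descent of an ample module. -/
theorem exists_ample_descent (f : Y ⟶ V) [IsFinite f] (hf : Function.Surjective f) {M : Y.Modules}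
    (hM : CohB1.IsAmple M) (U : V.Opens) (hU : IsIso (f ∣_ U)) {J : Type u} [Finite J] (G : J → V.Opens)
    (hG : ∀ j, IsAffineOpen (G j)) (hGG : ∀ i j, i ≠ j → G i ⊓ G j ≤ U) (hcov : U ⊔ ⨆ j, G j = ⊤)
    (w : ∀ _ : J, Coh.structureModule Y ⟶ M) (hw : ∀ j, CohB1.genLocus M (w j) = f ⁻¹ᵁ G j) :
    ∃ L : V.Modules, PicF.IsInvertible L ∧ Nonempty ((Scheme.Modules.pullback f).obj L ≅ M) ∧
      ∀ x : V, ∃ (n : ℕ) (s : Coh.structureModule V ⟶ CohB1.tensorPow L (n + 1)),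
        x ∈ CohB1.genLocus _ s ∧ IsAffineOpen (CohB1.genLocus _ s) := by
  classical
  cases nonempty_fintype J
  have hinv : PicF.IsInvertible M := hM.1
  have hwg : ∀ j, IsGen (sec (w j) (f ⁻¹ᵁ G j)) := fun j => by
    rw [← hw]
    exact isGen_sec_genLocus _
  choose W e hpW hWU he using fun p : U => exists_gen_nhd f hinv U hU p.1 p.2
  have hcov' : (⨆ j, G j) ⊔ ⨆ k, W k = ⊤ := by
    rw [eq_top_iff, ← hcov, sup_comm]
    refine sup_le_sup le_rfl fun p hp => Opens.mem_iSup.mpr ⟨⟨p, hp⟩, hpW _⟩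
  let D : Desc f M (J ⊕ U) := mkDesc f M U hU G hGG (fun j => sec (w j) (f ⁻¹ᵁ G j)) hwg W hWU e he hcov'
  obtain ⟨L, ε, g, hL, hε, h0, h1, h2⟩ := exists_descended D
  refine ⟨L, hL, nonempty_pullback_iso D hε h1 h2, ?_⟩
  -- the general construction of sections
  have key : ∀ (k : ℕ) (s' : Coh.structureModule Y ⟶ CohB1.tensorPow M k)
      (_ : ∀ j, sec s' (f ⁻¹ᵁ G j) = LocGen.pow (sec (w j) (f ⁻¹ᵁ G j)) k ∨
        CohB1.genLocus _ s' ⊓ f ⁻¹ᵁ G j ≤ f ⁻¹ᵁ U),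
      ∃ (N : ℕ) (s : Coh.structureModule V ⟶ CohB1.tensorPow L (k * (N + 1))),
        f ⁻¹ᵁ CohB1.genLocus _ s = CohB1.genLocus _ s' := by
    intro k s' hs'
    obtain ⟨c, hc, hc'⟩ := exists_family D h2 k s'
    have h3 : ∀ j : J, ∃ (n : ℕ) (t : Γ(V, G j)), f.app (G j) t = c (.inl j) ^ (n + 1) := by
      intro j
      rcases hs' j with h | h
      · refine ⟨0, 1, ?_⟩
        let cj : Γ(Y, f ⁻¹ᵁ G j) := c (.inl j)
        have h4 : sec s' (f ⁻¹ᵁ G j) = cj • LocGen.pow (sec (w j) (f ⁻¹ᵁ G j)) k := hc (.inl j)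
        have h5 : (1 : Γ(Y, f ⁻¹ᵁ G j)) = cj := by
          apply ((hwg j).pow k).ext
          rw [← h4, one_smul, h]
        have h6 : (f.app (G j)).hom (1 : Γ(V, G j)) = (1 : Γ(Y, f ⁻¹ᵁ G j)) := map_one _
        have h7 : cj = cj ^ (0 + 1) := by rw [zero_add, pow_one]
        exact h6.trans (h5.trans h7)
      · refine K782.PowRange.exists_pow_app f U (fun W hW => bijective_app f U hU W hW) (G j) (hG j) _ ?_
        refine le_trans (le_of_eq ?_) h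
        exact (genLocus_inf_eq s' ((hwg j).pow k) (hc (.inl j))).symm
    choose n t ht using h3
    let P : ℕ := ∏ j, (n j + 1)
    have hP : 0 < P := Finset.prod_pos fun j _ => Nat.succ_pos _
    obtain ⟨N, hN⟩ : ∃ N, P = N + 1 := ⟨P - 1, by omega⟩
    refine ⟨N, exists_section_pow D hε h0 h1 s' c hc hc' N ?_⟩
    rintro (j | p)
    · obtain ⟨m, hm⟩ : n j + 1 ∣ N + 1 := by
        rw [← hN]
        exact Finset.dvd_prod_of_mem _ (Finset.mem_univ j)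
      refine ⟨t j ^ m, ?_⟩
      rw [hm, pow_mul]
      exact (map_pow (f.app (G j)).hom _ _).trans (congrArg (· ^ m) (ht j))
    · exact (bijective_app f U hU _ (hWU p)).2 _
  have hsurj : ∀ (A B : V.Opens), f ⁻¹ᵁ A = f ⁻¹ᵁ B → A = B := by
    intro A B h
    ext x
    obtain ⟨y, rfl⟩ := hf x
    change y ∈ f ⁻¹ᵁ A ↔ y ∈ f ⁻¹ᵁ B
    rw [h]
  have hsurj' : ∀ (A B : V.Opens), f ⁻¹ᵁ A ≤ f ⁻¹ᵁ B → A ≤ B := by
    intro A B h x hx
    obtain ⟨y, rfl⟩ := hf x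
    exact h hx
  intro x
  have hx : x ∈ U ⊔ ⨆ j, G j := by rw [hcov]; trivial
  rcases hx with hx | hx
  · obtain ⟨y, rfl⟩ := hf x
    obtain ⟨m, t, hyt, htU, hta⟩ := IsAmple.exists_genLocus_le hM (W := f ⁻¹ᵁ U) (x := y) hx
    obtain ⟨N, s, hs⟩ := key (m + 1) t fun j => Or.inr (inf_le_left.trans htU)
    have h4 : CohB1.genLocus _ s ≤ U := hsurj' _ _ (by rw [hs]; exact htU)
    have h5 : f y ∈ CohB1.genLocus _ s := by
      change y ∈ f ⁻¹ᵁ CohB1.genLocus _ s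
      rw [hs]
      exact hyt
    have h6 : IsAffineOpen (CohB1.genLocus _ s) :=
      isAffineOpen_of_preimage f U hU _ h4 (by rw [hs]; exact hta)
    exact ⟨(m + 1) * N + m, s, h5, h6⟩
  · obtain ⟨j, hj⟩ := Opens.mem_iSup.mp hx
    have hgl : CohB1.genLocus _ (powHom (w j) (0 + 1)) = f ⁻¹ᵁ G j := by
      rw [genLocus_powHom hinv, hw]
    obtain ⟨N, s, hs⟩ := key 1 (powHom (w j) (0 + 1)) fun j' => by
      by_cases hjj : j' = j
      · subst hjj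
        left
        rw [sec_powHom]
      · right
        rw [hgl]
        exact f.preimage_mono (hGG j j' (Ne.symm hjj))
    have h4 : CohB1.genLocus _ s = G j := hsurj _ _ (by rw [hs, hgl])
    have h5 : x ∈ CohB1.genLocus _ s := by rw [h4]; exact hj
    have h6 : IsAffineOpen (CohB1.genLocus _ s) := by rw [h4]; exact hG j
    exact ⟨1 * N + 0, s, h5, h6⟩

end K782.AmpleGlue
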