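import Groth.Agent.ResProp.K782.CodimOne

/-!
# The open `V` with an ample module below a birational projective morphism
-/

set_option autoImplicit false
universe u
open CategoryTheory CategoryTheory.Limits AlgebraicGeometry Opposite TopologicalSpace
open Groth.Agent.Fdesc Groth.Agent.Fdesc.LocGen

namespace K782.AmpleV

open K782.CodimOne

variable {X Y : Scheme.{u}}

/-- A closed subset of a scheme contained in a finite union of affine opens which are pairwise disjoint on it is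
the image of an affine closed subscheme. -/
theorem exists_affine_closed (V : Scheme.{u}) (U : V.Opens) {J : Type u} [Finite J] (G : J → V.Opens)
    (hG : ∀ j, IsAffineOpen (G j)) (hGG : ∀ i j, i ≠ j → G i ⊓ G j ≤ U) (hcov : U ⊔ ⨆ j, G j = ⊤) :
    ∃ (T : Scheme.{u}) (g : T ⟶ V), IsClosedImmersion g ∧ IsAffine T ∧
      Set.range g.base = (U : Set V)ᶜ := by
  let Z : Closeds V := ⟨(U : Set V)ᶜ, U.isOpen.isClosed_compl⟩
  let I := Scheme.IdealSheafData.vanishingIdeal Z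
  have hr : Set.range I.subschemeι.base = (U : Set V)ᶜ := by
    exact I.range_subschemeι.trans (Scheme.IdealSheafData.coe_support_vanishingIdeal Z)
  refine ⟨I.subscheme, I.subschemeι, inferInstance, ?_, hr⟩
  have hnot : ∀ t : I.subscheme, I.subschemeι t ∉ U := by
    intro t
    have : I.subschemeι t ∈ Set.range I.subschemeι.base := ⟨t, rfl⟩
    rw [hr] at this
    exact this
  have h2 : IsAffineOpen (⨆ j, I.subschemeι ⁻¹ᵁ G j) := by
    refine IsAffineOpen.iSup_of_disjoint (fun j => (hG j).preimage I.subschemeι) ?_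
    intro i j hij
    rw [Function.onFun, disjoint_iff, eq_bot_iff]
    intro t ht
    exact hnot t (hGG i j hij ht)
  have h3 : (⨆ j, I.subschemeι ⁻¹ᵁ G j) = ⊤ := by
    rw [eq_top_iff]
    intro t _
    have h4 : I.subschemeι t ∈ U ⊔ ⨆ j, G j := by rw [hcov]; trivial
    rcases h4 with h4 | h4
    · exact absurd h4 (hnot t)
    · obtain ⟨j, hj⟩ := Opens.mem_iSup.mp h4
      exact Opens.mem_iSup.mpr ⟨j, hj⟩
  rw [h3] at h2
  have h5 : IsAffine (⊤ : I.subscheme.Opens) := h2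
  exact IsAffine.of_isIso I.subscheme.topIso.inv

/-- Sections of powers can be brought to a common exponent. -/
theorem exists_common_power {L : Y.Modules} (hL : PicF.IsInvertible L) {J : Type u} [Finite J] (m : J → ℕ)
    (w : ∀ j, Coh.structureModule Y ⟶ CohB1.tensorPow L (m j + 1)) :
    ∃ (n : ℕ) (_ : 1 ≤ n) (w' : J → (Coh.structureModule Y ⟶ CohB1.tensorPow L n)),
      ∀ j, CohB1.genLocus _ (w' j) = CohB1.genLocus _ (w j) := by
  classical
  cases nonempty_fintype J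
  let P : ℕ := ∏ j, (m j + 1)
  have hP : 0 < P := Finset.prod_pos fun j _ => Nat.succ_pos _
  have hdvd : ∀ j, (m j + 1) ∣ P := fun j => Finset.dvd_prod_of_mem _ (Finset.mem_univ j)
  have hcast : ∀ j, (m j + 1) * (P / (m j + 1)) = P := fun j => Nat.mul_div_cancel' (hdvd j)
  have hne : ∀ j, P / (m j + 1) ≠ 0 := fun j h0 => by
    have := hcast j
    rw [h0] at this
    omega
  refine ⟨P, hP, fun j => Groth.Agent.Ega2.SecCalc.castSec (hcast j)
    (Groth.Agent.Ega2.SecCalc.powSec (w j) (P / (m j + 1))), fun j => ?_⟩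
  rw [Groth.Agent.Ega2.SecCalc.genLocus_castSec, Groth.Agent.Ega2.SecCalc.genLocus_powSec hL _ (hne j)]

/-- A closed morphism which is an isomorphism over a dense open is surjective. -/
theorem surjective_of_dense (f : Y ⟶ X) (hf : IsClosedMap f) (U : X.Opens) (hU : IsIso (f ∣_ U))
    (hd : Dense (U : Set X)) : Function.Surjective f := by
  have h1 : IsClosed (Set.range f) := by
    rw [← Set.image_univ]
    exact hf _ isClosed_univ
  have h2 : (U : Set X) ⊆ Set.range f := by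
    intro x hx
    refine ⟨((inv (f ∣_ U)) ⟨x, hx⟩).1, ?_⟩
    have h3 : (f ∣_ U) ((inv (f ∣_ U)) ⟨x, hx⟩) = ⟨x, hx⟩ := by
      rw [← Scheme.Hom.comp_apply, IsIso.inv_hom_id]
      rfl
    have h4 : U.ι ((f ∣_ U) ((inv (f ∣_ U)) ⟨x, hx⟩)) = x := by
      rw [h3]
      rfl
    rw [← Scheme.Hom.comp_apply, morphismRestrict_ι, Scheme.Hom.comp_apply] at h4
    exact h4
  have h3 : Set.range f = Set.univ := by
    rw [← h1.closure_eq]
    exact Set.eq_univ_of_univ_subset (hd.closure_eq ▸ closure_mono h2)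
  exact Set.range_eq_univ.mp h3

theorem main [AlgebraicGeometry.IsNoetherian X] [AlgebraicGeometry.IsNoetherian Y] (f : Y ⟶ X) [IsProper f]
    (L' : Y.Modules) (hL' : CohB1.IsAmple L') (U : X.Opens) (hU : IsIso (f ∣_ U))
    (hd : Dense (U : Set X)) (hd' : Dense ((f ⁻¹ᵁ U : Y.Opens) : Set Y)) :
    ∃ V : X.Opens, U ≤ V ∧
      (∃ (T : Scheme.{u}) (g : T ⟶ (V : Scheme.{u})), IsClosedImmersion g ∧ IsAffine T ∧
        Set.range (g ≫ V.ι).base = (V : Set X) \ (U : Set X)) ∧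
      (∀ y : X, ringKrullDim (X.presheaf.stalk y) ≤ 1 → y ∈ V) ∧ IsFinite (f ∣_ V) ∧
      ∃ (L : (V : Scheme.{u}).Modules) (n : ℕ), PicF.IsInvertible L ∧
        (∀ x : (V : Scheme.{u}), ∃ (n : ℕ) (s : Coh.structureModule (V : Scheme.{u}) ⟶ CohB1.tensorPow L (n + 1)),
          x ∈ CohB1.genLocus _ s ∧ IsAffineOpen (CohB1.genLocus _ s)) ∧ 1 ≤ n ∧
        Nonempty ((Scheme.Modules.pullback (f ∣_ V)).obj L ≅
          (CohB1.tensorPow L' n).restrict (f ⁻¹ᵁ V).ι) := by
  obtain ⟨hfin, Ω, hjΩ, hΩ⟩ := exists_separation U hd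
  let J : Type u := {y : X // y ∉ U ∧ ringKrullDim (X.presheaf.stalk y) ≤ 1}
  have hJfin : Finite J := hfin.to_subtype
  choose W hjW hW using fun j : J => exists_isFinite_nhd f U hd' hU j.1 j.2.2
  choose G hGΩ hG hjG m w hw using fun j : J => exists_good_nhd f f.isClosedMap hL' j.1
    (K782.GenPt.finite_fiber f U hd' hU j.1 j.2.2) (Ω j ⊓ W j) ⟨hjΩ j, hjW j⟩
  obtain ⟨n, hn, w', hw'⟩ := exists_common_power hL'.1 m w
  have hGG : ∀ i j, i ≠ j → G i ⊓ G j ≤ U := fun i j hij =>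
    (inf_le_inf ((hGΩ i).trans inf_le_left) ((hGΩ j).trans inf_le_left)).trans (hΩ i j hij)
  have hGfin : ∀ j, IsFinite (f ∣_ G j) := fun j => by
    have h1 : IsFinite ((f ∣_ W j) ∣_ ((W j).ι ⁻¹ᵁ G j)) := by
      have := hW j
      infer_instance
    exact (restrict_restrict f @IsFinite (W j) (G j) ((hGΩ j).trans inf_le_right)).1 h1
  let V : X.Opens := U ⊔ ⨆ j, G j
  have hUV : U ≤ V := le_sup_left
  have hGV : ∀ j, G j ≤ V := fun j => (le_iSup G j).trans le_sup_right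
  have hfinV : IsFinite (f ∣_ V) := by
    have h1 := of_iSup f @IsFinite (fun o : Option J => o.elim U G) (by
      rintro (_ | j)
      · change IsFinite (f ∣_ U)
        infer_instance
      · exact hGfin j)
    have h2 : (⨆ o : Option J, o.elim U G) = V := by
      rw [iSup_option]
      rfl
    rwa [h2] at h1
  have hsurj := surjective_of_dense f f.isClosedMap U hU hd
  have hsurjV : Function.Surjective (f ∣_ V) := by
    intro x
    obtain ⟨y, hy⟩ := hsurj x.1
    have hyV : f y ∈ V := by rw [hy]; exact x.2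
    refine ⟨⟨y, hyV⟩, ?_⟩
    apply V.ι.isOpenEmbedding.injective
    rw [← Scheme.Hom.comp_apply, morphismRestrict_ι, Scheme.Hom.comp_apply]
    exact hy
  -- the data on `V`
  let U₁ : (V : Scheme.{u}).Opens := V.ι ⁻¹ᵁ U
  let G₁ : J → (V : Scheme.{u}).Opens := fun j => V.ι ⁻¹ᵁ G j
  have hG₁ : ∀ j, IsAffineOpen (G₁ j) := fun j => by
    refine (V.ι.isAffineOpen_iff_of_isOpenImmersion).mp ?_
    rw [Scheme.Hom.image_preimage_eq_opensRange_inf, Scheme.Opens.opensRange_ι, inf_eq_right.mpr (hGV j)]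
    exact hG j
  have hGG₁ : ∀ i j, i ≠ j → G₁ i ⊓ G₁ j ≤ U₁ := fun i j hij x hx => hGG i j hij hx
  have hcov₁ : U₁ ⊔ ⨆ j, G₁ j = ⊤ := by
    rw [eq_top_iff]
    rintro x -
    rcases x.2 with hx | hx
    · exact Or.inl hx
    · obtain ⟨j, hj⟩ := Opens.mem_iSup.mp hx
      exact Or.inr (Opens.mem_iSup.mpr ⟨j, hj⟩)
  have hU₁ : IsIso ((f ∣_ V) ∣_ U₁) :=
    (restrict_restrict f (MorphismProperty.isomorphisms Scheme.{u}) V U hUV).2 hU
  let M : (f ⁻¹ᵁ V : Y.Opens).toScheme.Modules := (CohB1.tensorPow L' n).restrict (f ⁻¹ᵁ V).ι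
  have hM : CohB1.IsAmple M := Groth.Agent.CalgB.ProjImm.isAmple_restrict_of_isCompact
    (Groth.Agent.Divis.NormAmple.isAmple_tensorPow hL' hn) _ (NoetherianSpace.isCompact _)
  choose w₁ hw₁ using fun j : J => exists_restrict_sec (f ⁻¹ᵁ V).ι (w' j)
  have hw₂ : ∀ j, CohB1.genLocus _ (w₁ j) = (f ∣_ V) ⁻¹ᵁ G₁ j := fun j => by
    rw [hw₁, hw', hw, ← Scheme.Hom.comp_preimage, ← Scheme.Hom.comp_preimage, morphismRestrict_ι]
  obtain ⟨L, hL, hLM, hLs⟩ := K782.AmpleGlue.exists_ample_descent (f ∣_ V) hsurjV hM U₁ hU₁ G₁ hG₁ hGG₁ hcov₁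
    w₁ hw₂
  refine ⟨V, hUV, ?_, fun y hy => ?_, hfinV, L, n, hL, hLs, hn, hLM⟩
  · obtain ⟨T, g, hg, hT, hr⟩ := exists_affine_closed (V : Scheme.{u}) U₁ G₁ hG₁ hGG₁ hcov₁
    refine ⟨T, g, hg, hT, ?_⟩
    have h1 : Set.range (g ≫ V.ι).base = V.ι.base '' Set.range g.base := by
      rw [← Set.range_comp]
      rfl
    rw [h1, hr]
    ext x
    constructor
    · rintro ⟨x, hx, rfl⟩
      exact ⟨x.2, hx⟩
    · rintro ⟨hxV, hxU⟩
      exact ⟨⟨x, hxV⟩, hxU, rfl⟩
  · by_cases hyU : y ∈ U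
    · exact hUV hyU
    · exact hGV ⟨y, hyU, hy⟩ (hjG ⟨y, hyU, hy⟩)

end K782.AmpleV
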