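import Mathlib.RingTheory.LocalRing.ResidueField.Fiber
import Mathlib.RingTheory.LocalRing.Module
import Mathlib.RingTheory.Ideal.Height
import Mathlib.RingTheory.Ideal.KrullsHeightTheorem
import Mathlib.RingTheory.Ideal.AssociatedPrime.Basic
import Mathlib.RingTheory.Ideal.MinimalPrime.Noetherian
import Mathlib.RingTheory.Support
import Mathlib.RingTheory.Spectrum.Prime.Module
import Mathlib.LinearAlgebra.Dimension.Constructions
import Mathlib.LinearAlgebra.FiniteDimensional.Lemmas

/-!
# Basic elements at the primes of small height
-/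

set_option autoImplicit false
universe u

namespace K782.BasicElt

open TensorProduct

section LinAlg

variable {K V : Type*} [Field K] [AddCommGroup V] [Module K V]

/-- If `y_1, …, y_n, z` span a space of dimension at most `n`, then for some `b_i` in `{0, 1}` the vector `z` lies in
the span of the `y_i + b_i z`. -/
theorem exists_zero_one {n : ℕ} (y : Fin n → V) (z : V)
    (h : ¬ LinearIndependent K (Fin.snoc y z : Fin (n + 1) → V)) :
    ∃ b : Fin n → Bool, z ∈ Submodule.span K (Set.range fun i => y i + (if b i then z else 0)) := by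
  classical
  by_cases hz : z ∈ Submodule.span K (Set.range y)
  · exact ⟨fun _ => false, by simpa using hz⟩
  have hy : ¬ LinearIndependent K y := fun hy => h (linearIndependent_finSnoc.2 ⟨hy, hz⟩)
  rw [Fintype.linearIndependent_iff] at hy
  push Not at hy
  obtain ⟨c, hc, i₀, hi₀⟩ := hy
  refine ⟨fun i => decide (i = i₀), ?_⟩
  have h1 : ∑ i, c i • (y i + (if decide (i = i₀) then z else 0)) = c i₀ • z := by
    simp only [smul_add, Finset.sum_add_distrib, hc, zero_add, decide_eq_true_eq, smul_ite, smul_zero]
    simp
  have h2 : c i₀ • z ∈ Submodule.span K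
      (Set.range fun i => y i + (if decide (i = i₀) then z else 0)) := by
    rw [← h1]
    exact Submodule.sum_mem _ fun i _ => Submodule.smul_mem _ _ (Submodule.subset_span ⟨i, rfl⟩)
  have h3 := Submodule.smul_mem _ (c i₀)⁻¹ h2
  rwa [smul_smul, inv_mul_cancel₀ hi₀, one_smul] at h3

end LinAlg

section Fib

variable {A : Type u} [CommRing A] {M : Type u} [AddCommGroup M] [Module A M]

/-- The image of `m` in the fibre of `M` at `q`. -/
noncomputable def im (q : PrimeSpectrum A) (m : M) : q.asIdeal.ResidueField ⊗[A] M := 1 ⊗ₜ m

theorem im_add (q : PrimeSpectrum A) (m n : M) : im q (m + n) = im q m + im q n := tmul_add _ _ _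

theorem im_smul (q : PrimeSpectrum A) (a : A) (m : M) :
    im q (a • m) = algebraMap A q.asIdeal.ResidueField a • im q m := by
  rw [im, im, TensorProduct.smul_tmul', ← TensorProduct.smul_tmul, Algebra.smul_def, smul_eq_mul]

theorem span_im (q : PrimeSpectrum A) {ι : Type*} {x : ι → M} (hx : Submodule.span A (Set.range x) = ⊤) :
    Submodule.span q.asIdeal.ResidueField (Set.range fun i => im q (x i)) = ⊤ := by
  rw [eq_top_iff]
  rintro t -
  induction t with
  | zero => exact zero_mem _
  | add a b ha hb => exact add_mem ha hb
  | tmul c m =>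
    have h1 : im q m ∈ Submodule.span q.asIdeal.ResidueField (Set.range fun i => im q (x i)) := by
      have hm : m ∈ Submodule.span A (Set.range x) := by rw [hx]; trivial
      induction hm using Submodule.span_induction with
      | mem m hm => obtain ⟨i, rfl⟩ := hm; exact Submodule.subset_span ⟨i, rfl⟩
      | zero => rw [im, tmul_zero]; exact zero_mem _
      | add a b _ _ ha hb => rw [im_add]; exact add_mem ha hb
      | smul a m _ hm => rw [im_smul]; exact Submodule.smul_mem _ _ hm
    have h2 : c ⊗ₜ[A] m = c • im q m := by
      rw [im, TensorProduct.smul_tmul', smul_eq_mul, mul_one]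
    rw [h2]
    exact Submodule.smul_mem _ _ h1

end Fib

section Fib2

variable {A : Type u} [CommRing A] {M : Type u} [AddCommGroup M] [Module A M]

instance [Module.Finite A M] (q : PrimeSpectrum A) :
    Module.Finite q.asIdeal.ResidueField (q.asIdeal.ResidueField ⊗[A] M) := inferInstance

theorem ker_baseChange_mkQ (q : PrimeSpectrum A) {ι : Type*} (x : ι → M) :
    LinearMap.ker ((Submodule.span A (Set.range x)).mkQ.baseChange q.asIdeal.ResidueField) =
      Submodule.span q.asIdeal.ResidueField (Set.range fun i => im q (x i)) := by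
  set N := Submodule.span A (Set.range x) with hN
  apply le_antisymm
  · intro t ht
    have hex := lTensor_exact q.asIdeal.ResidueField (f := N.subtype) (g := N.mkQ)
      (LinearMap.exact_subtype_mkQ N) (Submodule.mkQ_surjective N)
    have ht' : (N.mkQ.lTensor q.asIdeal.ResidueField) t = 0 := ht
    obtain ⟨s, rfl⟩ := (hex t).1 ht'
    induction s with
    | zero => simp
    | add a b ha hb =>
      rw [map_add]
      exact add_mem (ha (by exact (hex _).2 ⟨a, rfl⟩) (by exact (hex _).2 ⟨a, rfl⟩))
        (hb (by exact (hex _).2 ⟨b, rfl⟩) (by exact (hex _).2 ⟨b, rfl⟩))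
    | tmul c m =>
      obtain ⟨m, hm⟩ := m
      rw [LinearMap.lTensor_tmul]
      have h1 : im q m ∈ Submodule.span q.asIdeal.ResidueField (Set.range fun i => im q (x i)) := by
        clear ht ht'
        induction hm using Submodule.span_induction with
        | mem m hm => obtain ⟨i, rfl⟩ := hm; exact Submodule.subset_span ⟨i, rfl⟩
        | zero => rw [im, tmul_zero]; exact zero_mem _
        | add a b _ _ ha hb => rw [im_add]; exact add_mem ha hb
        | smul a m _ hm => rw [im_smul]; exact Submodule.smul_mem _ _ hm
      have h2 : c ⊗ₜ[A] (N.subtype ⟨m, hm⟩) = c • im q m := by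
        rw [im, TensorProduct.smul_tmul', smul_eq_mul, mul_one]; rfl
      rw [h2]
      exact Submodule.smul_mem _ _ h1
  · rw [Submodule.span_le]
    rintro _ ⟨i, rfl⟩
    change (N.mkQ.baseChange q.asIdeal.ResidueField) (1 ⊗ₜ x i) = 0
    rw [LinearMap.baseChange_tmul]
    have : N.mkQ (x i) = 0 := by
      rw [Submodule.mkQ_apply, Submodule.Quotient.mk_eq_zero]
      exact Submodule.subset_span ⟨i, rfl⟩
    rw [this, tmul_zero]

/-- The dimension of the fibre of a module. -/
noncomputable def D (q : PrimeSpectrum A) (Q : Type u) [AddCommGroup Q] [Module A Q] : ℕ :=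
  Module.finrank q.asIdeal.ResidueField (q.asIdeal.ResidueField ⊗[A] Q)

/-- The rank of a family of elements in the fibre. -/
noncomputable def rk (q : PrimeSpectrum A) {ι : Type*} (x : ι → M) : ℕ :=
  Module.finrank q.asIdeal.ResidueField
    (Submodule.span q.asIdeal.ResidueField (Set.range fun i => im q (x i)))

theorem D_quot_add_rk [Module.Finite A M] (q : PrimeSpectrum A) {ι : Type*} (x : ι → M) :
    D q (M ⧸ Submodule.span A (Set.range x)) + rk q x = D q M := by
  have h := LinearMap.finrank_range_add_finrank_ker
    ((Submodule.span A (Set.range x)).mkQ.baseChange q.asIdeal.ResidueField)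
  rw [ker_baseChange_mkQ] at h
  rw [← D, ← rk] at h
  rw [← h]
  congr 1
  have hs : Function.Surjective
      ((Submodule.span A (Set.range x)).mkQ.baseChange q.asIdeal.ResidueField) :=
    LinearMap.lTensor_surjective _ (Submodule.mkQ_surjective _)
  rw [LinearMap.range_eq_top.2 hs, finrank_top]
  rfl

theorem isClosed_D [Module.Finite A M] (c : ℕ) : IsClosed {q : PrimeSpectrum A | c ≤ D q M} := by
  classical
  rw [← isOpen_compl_iff, isOpen_iff_forall_mem_open]
  intro q hq
  simp only [Set.mem_compl_iff, Set.mem_ofPred_eq, not_le] at hq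
  -- choose elements of `M` whose images form a basis of the fibre
  obtain ⟨b, hb, hbs, hbl⟩ := exists_linearIndependent q.asIdeal.ResidueField (Set.range fun m : M => im q m)
  have htop : Submodule.span q.asIdeal.ResidueField (Set.range fun m : M => im q m) = ⊤ :=
    span_im q (x := fun m : M => m) (by simp)
  rw [htop] at hbs
  have hbfin : Set.Finite b := hbl.set_finite_of_isNoetherian
  have : Fintype b := hbfin.fintype
  have hcard : Fintype.card b = D q M := by
    have hB := Module.Basis.mk hbl (by simpa using hbs.ge)
    exact (Module.finrank_eq_card_basis hB).symm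
  choose m hm using fun t : b => hb t.2
  have hspan : Submodule.span q.asIdeal.ResidueField (Set.range fun t : b => im q (m t)) = ⊤ := by
    have : (fun t : b => im q (m t)) = Subtype.val := funext hm
    rw [this, Subtype.range_coe, hbs]
  have hD0 : D q (M ⧸ Submodule.span A (Set.range m)) = 0 := by
    have h := D_quot_add_rk q m
    rw [rk, hspan, finrank_top] at h
    have h' : Module.finrank q.asIdeal.ResidueField (q.asIdeal.ResidueField ⊗[A] M) = D q M := rfl
    omega
  have hns : q ∉ Module.support A (M ⧸ Submodule.span A (Set.range m)) := by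
    rw [Module.mem_support_iff_nontrivial_residueField_tensorProduct, not_nontrivial_iff_subsingleton]
    exact Module.finrank_zero_iff.1 hD0
  refine ⟨(Module.support A (M ⧸ Submodule.span A (Set.range m)))ᶜ, ?_, ?_, hns⟩
  · intro q' hq'
    simp only [Set.mem_compl_iff, Set.mem_ofPred_eq, not_le]
    rw [Set.mem_compl_iff, Module.mem_support_iff_nontrivial_residueField_tensorProduct,
      not_nontrivial_iff_subsingleton] at hq'
    have h0 : D q' (M ⧸ Submodule.span A (Set.range m)) = 0 := Module.finrank_zero_iff.2 hq'
    have h := D_quot_add_rk q' m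
    have h2 : rk q' m ≤ Fintype.card b := by
      rw [rk]
      exact finrank_range_le_card _
    omega
  · rw [isOpen_compl_iff]
    exact Module.isClosed_support

end Fib2

section Step

variable {A : Type u} [CommRing A] {M : Type u} [AddCommGroup M] [Module A M]

theorem exists_coeffs {n : ℕ} (x : Fin n → M) (z : M) (B : Finset (PrimeSpectrum A))
    (hB : ∀ q ∈ B, rk q (Fin.snoc x z : Fin (n + 1) → M) ≤ n) :
    ∃ a : Fin n → A, ∀ q ∈ B,
      im q z ∈ Submodule.span q.asIdeal.ResidueField (Set.range fun i => im q (x i + a i • z)) := by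
  classical
  induction hc : B.card generalizing B with
  | zero =>
    rw [Finset.card_eq_zero] at hc
    subst hc
    exact ⟨fun _ => 0, fun q hq => absurd hq (by simp)⟩
  | succ m ih =>
    have hne : B.Nonempty := by
      rw [← Finset.card_pos]; omega
    obtain ⟨q₀, hq₀, hmin⟩ := B.exists_minimal hne
    obtain ⟨a, ha⟩ := ih (B.erase q₀) (fun q hq => hB q (Finset.mem_of_mem_erase hq))
      (by rw [Finset.card_erase_of_mem hq₀]; omega)
    have hex : ∀ q ∈ B.erase q₀, ∃ e : A, e ∈ q.asIdeal ∧ e ∉ q₀.asIdeal := by
      intro q hq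
      by_contra hcon
      push Not at hcon
      have hle : q ≤ q₀ := hcon
      have h1 := hmin (Finset.mem_of_mem_erase hq) hle
      exact Finset.ne_of_mem_erase hq (le_antisymm hle h1)
    choose! e he1 he2 using hex
    let E : A := ∏ q ∈ B.erase q₀, e q
    have hE : ∀ q ∈ B.erase q₀, E ∈ q.asIdeal := fun q hq =>
      Ideal.mem_of_dvd _ (Finset.dvd_prod_of_mem _ hq) (he1 q hq)
    have hE0 : E ∉ q₀.asIdeal := fun h => by
      obtain ⟨q, hq, hq'⟩ := (Ideal.IsPrime.prod_mem_iff).1 h
      exact he2 q hq hq'
    have hE0' : algebraMap A q₀.asIdeal.ResidueField E ≠ 0 := by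
      rwa [ne_eq, Ideal.algebraMap_residueField_eq_zero]
    obtain ⟨b, hb⟩ := exists_zero_one (K := q₀.asIdeal.ResidueField)
      (fun i => im q₀ (x i + a i • z)) (im q₀ (E • z)) (by
        intro hli
        have h1 := finrank_span_eq_card hli
        rw [Fintype.card_fin] at h1
        have h2 := hB q₀ hq₀
        rw [rk] at h2
        have h3 : Submodule.span q₀.asIdeal.ResidueField (Set.range
            (Fin.snoc (fun i => im q₀ (x i + a i • z)) (im q₀ (E • z)) : Fin (n + 1) → _)) ≤
          Submodule.span q₀.asIdeal.ResidueField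
            (Set.range fun i => im q₀ ((Fin.snoc x z : Fin (n + 1) → M) i)) := by
          rw [Submodule.span_le]
          have hz : im q₀ z ∈ Submodule.span q₀.asIdeal.ResidueField
              (Set.range fun i => im q₀ ((Fin.snoc x z : Fin (n + 1) → M) i)) :=
            Submodule.subset_span ⟨Fin.last n, by simp⟩
          have hxi : ∀ i, im q₀ (x i) ∈ Submodule.span q₀.asIdeal.ResidueField
              (Set.range fun i => im q₀ ((Fin.snoc x z : Fin (n + 1) → M) i)) := fun i =>
            Submodule.subset_span ⟨Fin.castSucc i, by simp⟩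
          rintro _ ⟨j, rfl⟩
          induction j using Fin.lastCases with
          | last =>
            simp only [Fin.snoc_last]
            rw [im_smul]
            exact Submodule.smul_mem _ _ hz
          | cast i =>
            simp only [Fin.snoc_castSucc]
            rw [im_add, im_smul]
            exact add_mem (hxi i) (Submodule.smul_mem _ _ hz)
        have : Module.Finite q₀.asIdeal.ResidueField (Submodule.span q₀.asIdeal.ResidueField
            (Set.range fun i => im q₀ ((Fin.snoc x z : Fin (n + 1) → M) i))) :=
          FiniteDimensional.span_of_finite _ (Set.finite_range _)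
        have h4 := Submodule.finrank_mono h3
        omega)
    refine ⟨fun i => a i + (if b i then E else 0), fun q hq => ?_⟩
    by_cases hqq : q = q₀
    · subst hqq
      have h5 : (fun i => im q (x i + (a i + (if b i then E else 0)) • z)) =
          fun i => im q (x i + a i • z) + (if b i then im q (E • z) else 0) := by
        funext i
        rw [add_smul, ← add_assoc, im_add]
        congr 1
        split
        · rfl
        · rw [zero_smul, im, tmul_zero]
      rw [h5]
      have h6 := Submodule.smul_mem _ (algebraMap A q.asIdeal.ResidueField E)⁻¹ hb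
      rwa [im_smul, smul_smul, inv_mul_cancel₀ hE0', one_smul, ← im_smul] at h6
    · have hq' : q ∈ B.erase q₀ := Finset.mem_erase.2 ⟨hqq, hq⟩
      have h5 : (fun i => im q (x i + (a i + (if b i then E else 0)) • z)) =
          fun i => im q (x i + a i • z) := by
        funext i
        rw [add_smul, ← add_assoc, im_add]
        have : im q ((if b i then E else 0) • z) = 0 := by
          rw [im_smul]
          have : algebraMap A q.asIdeal.ResidueField (if b i then E else 0) = 0 := by
            split
            · rw [Ideal.algebraMap_residueField_eq_zero]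
              exact hE q hq'
            · exact map_zero _
          rw [this, zero_smul]
        rw [this, add_zero]
      rw [h5]
      exact ha q hq'

theorem rk_le_add_one {n : ℕ} (q : PrimeSpectrum A) (x : Fin (n + 1) → M) (a : Fin n → A) :
    rk q x ≤ rk q (fun i : Fin n => x i.castSucc + a i • x (Fin.last n)) + 1 := by
  rw [rk, rk]
  set S := Submodule.span q.asIdeal.ResidueField
    (Set.range fun i : Fin n => im q (x i.castSucc + a i • x (Fin.last n))) with hS
  have h1 : Submodule.span q.asIdeal.ResidueField (Set.range fun i => im q (x i)) ≤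
      S ⊔ Submodule.span q.asIdeal.ResidueField {im q (x (Fin.last n))} := by
    rw [Submodule.span_le]
    have hz : im q (x (Fin.last n)) ∈
        S ⊔ Submodule.span q.asIdeal.ResidueField {im q (x (Fin.last n))} :=
      Submodule.mem_sup_right (Submodule.mem_span_singleton_self _)
    rintro _ ⟨j, rfl⟩
    induction j using Fin.lastCases with
    | last => exact hz
    | cast i =>
      have h2 : im q (x i.castSucc) = im q (x i.castSucc + a i • x (Fin.last n)) -
          algebraMap A q.asIdeal.ResidueField (a i) • im q (x (Fin.last n)) := by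
        rw [im_add, im_smul, add_sub_cancel_right]
      simp only [h2]
      exact sub_mem (Submodule.mem_sup_left (Submodule.subset_span ⟨i, rfl⟩))
        (Submodule.smul_mem _ _ hz)
  have : Module.Finite q.asIdeal.ResidueField S :=
    FiniteDimensional.span_of_finite _ (Set.finite_range _)
  have h3 := Submodule.finrank_mono h1
  have h4 := Submodule.finrank_add_le_finrank_add_finrank S
    (Submodule.span q.asIdeal.ResidueField {im q (x (Fin.last n))})
  have h5 : Module.finrank q.asIdeal.ResidueField
      (Submodule.span q.asIdeal.ResidueField {im q (x (Fin.last n))}) ≤ 1 := by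
    have := finrank_span_le_card (R := q.asIdeal.ResidueField) ({im q (x (Fin.last n))} : Set _)
    simpa using this
  omega

theorem rk_le_of_mem {n : ℕ} (q : PrimeSpectrum A) (x : Fin (n + 1) → M) (a : Fin n → A)
    (h : im q (x (Fin.last n)) ∈ Submodule.span q.asIdeal.ResidueField
      (Set.range fun i : Fin n => im q (x i.castSucc + a i • x (Fin.last n)))) :
    rk q x ≤ rk q (fun i : Fin n => x i.castSucc + a i • x (Fin.last n)) := by
  rw [rk, rk]
  have : Module.Finite q.asIdeal.ResidueField (Submodule.span q.asIdeal.ResidueField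
    (Set.range fun i : Fin n => im q (x i.castSucc + a i • x (Fin.last n)))) :=
    FiniteDimensional.span_of_finite _ (Set.finite_range _)
  refine Submodule.finrank_mono ?_
  rw [Submodule.span_le]
  rintro _ ⟨j, rfl⟩
  induction j using Fin.lastCases with
  | last => exact h
  | cast i =>
    have h2 : im q (x i.castSucc) = im q (x i.castSucc + a i • x (Fin.last n)) -
        algebraMap A q.asIdeal.ResidueField (a i) • im q (x (Fin.last n)) := by
      rw [im_add, im_smul, add_sub_cancel_right]
    simp only [h2]
    exact sub_mem (Submodule.subset_span ⟨i, rfl⟩) (Submodule.smul_mem _ _ h)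

theorem step [IsNoetherianRing A] [Module.Finite A M] (k r n : ℕ)
    (hr : ∀ q : PrimeSpectrum A, q.asIdeal.height ≤ k → D q M = r) (x : Fin (n + 1) → M)
    (hx : ∀ (q : PrimeSpectrum A) (h : ℕ), q.asIdeal.height = h → h ≤ k →
      min (n + 1) (k + 1 - h) ≤ rk q x) :
    ∃ x' : Fin n → M, ∀ (q : PrimeSpectrum A) (h : ℕ), q.asIdeal.height = h → h ≤ k →
      min n (k + 1 - h) ≤ rk q x' := by
  classical
  let N := Submodule.span A (Set.range x)
  let Λ : ℕ → Set (PrimeSpectrum A) := fun c => {q | c ≤ D q (M ⧸ N)}
  let J : ℕ → Ideal A := fun c => PrimeSpectrum.vanishingIdeal (Λ c)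
  have hJ : ∀ c, PrimeSpectrum.zeroLocus (J c : Set A) = Λ c := fun c => by
    rw [PrimeSpectrum.zeroLocus_vanishingIdeal_eq_closure, (isClosed_D c).closure_eq]
  let B : Set (PrimeSpectrum A) := {q | ∃ h : ℕ, q.asIdeal.height = h ∧ h ≤ k ∧
    rk q x = k + 1 - h ∧ k + 1 - h ≤ n}
  have hBfin : B.Finite := by
    have h1 : B ⊆ ⋃ c ∈ Finset.range (r + 1), {q | q.asIdeal ∈ (J c).minimalPrimes} := by
      rintro q ⟨h, hh, hk, hrk, hn⟩
      have hht : q.asIdeal.height ≤ k := by rw [hh]; exact_mod_cast hk
      have hDq := D_quot_add_rk q x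
      rw [hr q hht] at hDq
      simp only [Set.mem_iUnion]
      refine ⟨D q (M ⧸ N), Finset.mem_range.2 (by change D q (M ⧸ Submodule.span A (Set.range x)) < _; omega), ?_⟩
      have hqΛ : q ∈ PrimeSpectrum.zeroLocus (J (D q (M ⧸ N)) : Set A) := by
        rw [hJ]; exact le_refl (D q (M ⧸ N))
      refine ⟨⟨q.2, hqΛ⟩, ?_⟩
      rintro P ⟨hP, hJP⟩ hPq
      by_contra hcon
      have hlt : P < q.asIdeal := lt_of_le_not_ge hPq hcon
      let q' : PrimeSpectrum A := ⟨P, hP⟩
      have hfin : P.height ≠ ⊤ := by
        have : P.height ≤ h := hh ▸ Ideal.height_mono hPq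
        exact ne_top_of_le_ne_top (ENat.natCast_ne_top h) this
      have hlt' : P.height < q.asIdeal.height := by
        have : P.IsPrime := hP
        exact Ideal.height_strict_mono_of_isPrime hlt
      obtain ⟨h', hh'⟩ := ENat.ne_top_iff_exists.1 hfin
      have hh'' : q'.asIdeal.height = h' := hh'.symm
      have hlt'' : h' < h := by
        rw [hh, ← hh'] at hlt'
        exact_mod_cast hlt'
      have h3 := hx q' h' hh'' (by omega)
      have h4 : q' ∈ Λ (D q (M ⧸ N)) := by rw [← hJ]; exact hJP
      have h5 : D q (M ⧸ N) ≤ D q' (M ⧸ N) := h4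
      have h6 := D_quot_add_rk q' x
      rw [hr q' (by rw [hh'']; exact_mod_cast (by omega : h' ≤ k))] at h6
      have h7 : D q (M ⧸ N) = D q (M ⧸ Submodule.span A (Set.range x)) := rfl
      have h8 : D q' (M ⧸ N) = D q' (M ⧸ Submodule.span A (Set.range x)) := rfl
      omega
    refine Set.Finite.subset (Set.Finite.biUnion (Finset.finite_toSet _) fun c _ => ?_) h1
    have h2 : ((J c).minimalPrimes).Finite := Ideal.finite_minimalPrimes_of_isNoetherianRing A (J c)
    refine Set.Finite.of_finite_image (f := fun q : PrimeSpectrum A => q.asIdeal)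
      (h2.subset ?_) (fun p _ q _ h => PrimeSpectrum.ext h)
    rintro _ ⟨q, hq, rfl⟩
    exact hq
  obtain ⟨a, ha⟩ := exists_coeffs (fun i : Fin n => x i.castSucc) (x (Fin.last n)) hBfin.toFinset (by
    intro q hq
    rw [Set.Finite.mem_toFinset] at hq
    obtain ⟨h, hh, hk, hrk, hn⟩ := hq
    have : (Fin.snoc (fun i : Fin n => x i.castSucc) (x (Fin.last n)) : Fin (n + 1) → M) = x :=
      Fin.snoc_init_self x
    rw [this]
    omega)
  refine ⟨fun i : Fin n => x i.castSucc + a i • x (Fin.last n), fun q h hh hk => ?_⟩
  have h1 := hx q h hh hk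
  by_cases hq : q ∈ B
  · have h2 := rk_le_of_mem q x a (ha q (by rwa [Set.Finite.mem_toFinset]))
    omega
  · have h2 := rk_le_add_one q x a
    have h3 : ¬ (rk q x = k + 1 - h ∧ k + 1 - h ≤ n) := fun h4 => hq ⟨h, hh, hk, h4⟩
    omega

end Step

end K782.BasicElt
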