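import Groth.Agent.ResProp.K782.Basic
import Mathlib.Algebra.Module.LocalizedModule.Exact
import Mathlib.RingTheory.Localization.BaseChange

/-!
# Splitting off free submodules at the primes of small height
-/

set_option autoImplicit false
universe u

namespace K782.BasicElt

open TensorProduct

variable {A : Type u} [CommRing A] {M : Type u} [AddCommGroup M] [Module A M]

/-- `M` is free of rank `r` at the prime `q`. -/
def Fr (q : PrimeSpectrum A) (M : Type u) [AddCommGroup M] [Module A M] (r : ℕ) : Prop :=
  Nonempty (LocalizedModule q.asIdeal.primeCompl M ≃ₗ[Localization.AtPrime q.asIdeal]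
    (Fin r → Localization.AtPrime q.asIdeal))

/-- The fibre of `M` is the fibre of the localization. -/
noncomputable def fibEquiv (q : PrimeSpectrum A) (M : Type u) [AddCommGroup M] [Module A M] :
    q.asIdeal.ResidueField ⊗[Localization.AtPrime q.asIdeal] LocalizedModule q.asIdeal.primeCompl M
      ≃ₗ[q.asIdeal.ResidueField] q.asIdeal.ResidueField ⊗[A] M :=
  (TensorProduct.AlgebraTensorModule.congr (LinearEquiv.refl q.asIdeal.ResidueField q.asIdeal.ResidueField)
    (LocalizedModule.equivTensorProduct q.asIdeal.primeCompl M)) ≪≫ₗ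
    TensorProduct.AlgebraTensorModule.cancelBaseChange A (Localization.AtPrime q.asIdeal)
      q.asIdeal.ResidueField q.asIdeal.ResidueField M

theorem fibEquiv_mk (q : PrimeSpectrum A) (m : M) :
    fibEquiv q M (1 ⊗ₜ LocalizedModule.mk m 1) = im q m := by
  rw [fibEquiv, LinearEquiv.trans_apply, TensorProduct.AlgebraTensorModule.congr_tmul,
    LocalizedModule.equivTensorProduct_apply_mk, Localization.mk_one]
  simp [im]

theorem D_eq_of_free (q : PrimeSpectrum A)
    [Module.Free (Localization.AtPrime q.asIdeal) (LocalizedModule q.asIdeal.primeCompl M)]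
    [Module.Finite (Localization.AtPrime q.asIdeal) (LocalizedModule q.asIdeal.primeCompl M)] :
    Module.finrank (Localization.AtPrime q.asIdeal) (LocalizedModule q.asIdeal.primeCompl M) = D q M := by
  rw [D, ← (fibEquiv q M).finrank_eq, Module.finrank_baseChange]

theorem Fr.free {q : PrimeSpectrum A} {r : ℕ} (h : Fr q M r) :
    Module.Free (Localization.AtPrime q.asIdeal) (LocalizedModule q.asIdeal.primeCompl M) :=
  Module.Free.of_equiv h.some.symm

theorem Fr.finite {q : PrimeSpectrum A} {r : ℕ} (h : Fr q M r) :
    Module.Finite (Localization.AtPrime q.asIdeal) (LocalizedModule q.asIdeal.primeCompl M) :=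
  Module.Finite.equiv h.some.symm

theorem Fr.D_eq {q : PrimeSpectrum A} {r : ℕ} (h : Fr q M r) : D q M = r := by
  have := h.free
  have := h.finite
  rw [← D_eq_of_free, h.some.finrank_eq, Module.finrank_fin_fun]

theorem fr_of_free (q : PrimeSpectrum A)
    [Module.Free (Localization.AtPrime q.asIdeal) (LocalizedModule q.asIdeal.primeCompl M)]
    [Module.Finite (Localization.AtPrime q.asIdeal) (LocalizedModule q.asIdeal.primeCompl M)]
    {r : ℕ} (h : D q M = r) : Fr q M r := by
  refine ⟨LinearEquiv.ofFinrankEq _ _ ?_⟩
  rw [D_eq_of_free, h, Module.finrank_fin_fun]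

/-- Dividing by an element that is nonzero in the fibre. -/
theorem Fr.quot [Module.Finite A M] {q : PrimeSpectrum A} {r : ℕ} (h : Fr q M (r + 1)) {x : M} (hx : im q x ≠ 0) :
    Fr q (M ⧸ Submodule.span A {x}) r ∧
      ∀ a : Localization.AtPrime q.asIdeal,
        a • (LocalizedModule.mk x 1 : LocalizedModule q.asIdeal.primeCompl M) = 0 → a = 0 := by
  have h1 := h.free
  have h2 := h.finite
  set y : LocalizedModule q.asIdeal.primeCompl M := LocalizedModule.mk x 1 with hy
  let l : Localization.AtPrime q.asIdeal →ₗ[Localization.AtPrime q.asIdeal]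
    LocalizedModule q.asIdeal.primeCompl M := LinearMap.toSpanSingleton _ _ y
  let g : LocalizedModule q.asIdeal.primeCompl M →ₗ[Localization.AtPrime q.asIdeal]
      LocalizedModule q.asIdeal.primeCompl (M ⧸ Submodule.span A {x}) :=
    LocalizedModule.map q.asIdeal.primeCompl (Submodule.span A {x}).mkQ
  have hinj : Function.Injective
      (l.lTensor (IsLocalRing.ResidueField (Localization.AtPrime q.asIdeal))) := by
    rw [injective_iff_map_eq_zero]
    intro t ht
    obtain ⟨c, rfl⟩ : ∃ c : IsLocalRing.ResidueField (Localization.AtPrime q.asIdeal), t = c ⊗ₜ 1 :=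
      ⟨(TensorProduct.rid _ _ t), by
        obtain ⟨c, hc⟩ := (TensorProduct.rid (Localization.AtPrime q.asIdeal)
          (IsLocalRing.ResidueField (Localization.AtPrime q.asIdeal))).symm.surjective t
        rw [← hc]
        simp⟩
    rw [LinearMap.lTensor_tmul] at ht
    have hl : l 1 = y := by simp [l]
    rw [hl] at ht
    by_contra hne
    have hc : c ≠ 0 := fun hc => hne (by rw [hc, zero_tmul])
    apply hx
    have h3 : (1 : q.asIdeal.ResidueField) ⊗ₜ[Localization.AtPrime q.asIdeal] y = 0 := by
      have h4 : (1 : q.asIdeal.ResidueField) ⊗ₜ[Localization.AtPrime q.asIdeal] y = c⁻¹ • (c ⊗ₜ y) := by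
        rw [TensorProduct.smul_tmul', smul_eq_mul, inv_mul_cancel₀ hc]
      rw [h4, ht, smul_zero]
    rw [← fibEquiv_mk, ← hy, h3, map_zero]
  obtain ⟨l', hl'⟩ := (IsLocalRing.split_injective_iff_lTensor_residueField_injective l).2 hinj
  have hg : Function.Surjective g := by
    have := LocalizedModule.map_surjective q.asIdeal.primeCompl (Submodule.span A {x}).mkQ
      (Submodule.mkQ_surjective _)
    exact this
  have hex : Function.Exact l g := by
    intro t
    constructor
    · intro ht
      induction t using LocalizedModule.induction_on with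
      | _ m s =>
        have h5 : g (LocalizedModule.mk m s) = LocalizedModule.mk ((Submodule.span A {x}).mkQ m) s :=
          LocalizedModule.map_mk _ _ _ _
        rw [h5, ← LocalizedModule.zero_mk 1, LocalizedModule.mk_eq] at ht
        obtain ⟨c, hc⟩ := ht
        simp only [one_smul, smul_zero] at hc
        rw [Submonoid.smul_def, ← map_smul, Submodule.mkQ_apply, Submodule.Quotient.mk_eq_zero,
          Submodule.mem_span_singleton] at hc
        obtain ⟨a, ha⟩ := hc
        refine ⟨Localization.mk a (c * s), ?_⟩
        simp only [l, LinearMap.toSpanSingleton_apply, hy]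
        rw [LocalizedModule.mk_smul_mk, ha, mul_one]
        rw [LocalizedModule.mk_eq]
        refine ⟨1, ?_⟩
        simp only [one_smul]
        rw [Submonoid.smul_def, Submonoid.smul_def, smul_smul, Submonoid.coe_mul, mul_comm]
    · rintro ⟨a, rfl⟩
      simp only [l, LinearMap.toSpanSingleton_apply, map_smul]
      have h5 : g y = 0 := by
        have h6 : g y = LocalizedModule.mk ((Submodule.span A {x}).mkQ x) 1 :=
          LocalizedModule.map_mk _ _ _ _
        rw [h6]
        have : (Submodule.span A {x}).mkQ x = 0 := by
          rw [Submodule.mkQ_apply, Submodule.Quotient.mk_eq_zero]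
          exact Submodule.mem_span_singleton_self x
        rw [this, LocalizedModule.zero_mk]
      rw [h5, smul_zero]
  have h7 : Module.Free (Localization.AtPrime q.asIdeal)
      (LocalizedModule q.asIdeal.primeCompl (M ⧸ Submodule.span A {x})) :=
    Module.free_of_lTensor_residueField_injective l g hg hex hinj
  have h8 : Module.Finite (Localization.AtPrime q.asIdeal)
      (LocalizedModule q.asIdeal.primeCompl (M ⧸ Submodule.span A {x})) :=
    Module.Finite.of_surjective g hg
  refine ⟨fr_of_free q ?_, fun a ha => ?_⟩
  · have h9 := D_quot_add_rk q (fun _ : Fin 1 => x)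
    have h10 : Set.range (fun _ : Fin 1 => x) = {x} := Set.range_const
    rw [h10, h.D_eq] at h9
    have h11 : rk q (fun _ : Fin 1 => x) = 1 := by
      rw [rk]
      have : Set.range (fun _ : Fin 1 => im q x) = {im q x} := Set.range_const
      rw [this]
      exact finrank_span_singleton hx
    omega
  · have h12 : l' (l a) = a := LinearMap.congr_fun hl' a
    have h13 : l a = 0 := by simpa [l] using ha
    rw [← h12, h13, map_zero]


/-- Existence of an element that is part of a basis at every prime of height at most `k`. -/
theorem exists_basic [IsNoetherianRing A] [Module.Finite A M] (k r : ℕ) (hkr : k + 1 ≤ r)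
    (hr : ∀ q : PrimeSpectrum A, q.asIdeal.height ≤ k → D q M = r) :
    ∃ x : M, ∀ q : PrimeSpectrum A, q.asIdeal.height ≤ k → im q x ≠ 0 := by
  have key : ∀ (n : ℕ) (x : Fin (n + 1) → M), (∀ (q : PrimeSpectrum A) (h : ℕ), q.asIdeal.height = h →
      h ≤ k → min (n + 1) (k + 1 - h) ≤ rk q x) → ∃ x : M, ∀ q : PrimeSpectrum A,
        q.asIdeal.height ≤ k → im q x ≠ 0 := by
    intro n
    induction n with
    | zero =>
      intro x hx
      refine ⟨x 0, fun q hq h0 => ?_⟩
      obtain ⟨h, hh⟩ := ENat.ne_top_iff_exists.1 (ne_top_of_le_ne_top (ENat.natCast_ne_top k) hq)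
      have hk : h ≤ k := by rw [← hh] at hq; exact_mod_cast hq
      have h1 := hx q h hh.symm hk
      have h2 : rk q x = 0 := by
        rw [rk]
        have : Set.range (fun i => im q (x i)) = {0} := by
          have h3 : (fun i => im q (x i)) = fun _ => 0 := by
            funext i
            rw [Fin.fin_one_eq_zero i, h0]
          rw [h3, Set.range_const]
        rw [this, Submodule.span_zero_singleton, finrank_bot]
      omega
    | succ n ih =>
      intro x hx
      obtain ⟨x', hx'⟩ := step k r (n + 1) hr x hx
      exact ih x' hx'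
  obtain ⟨n, s, hs⟩ := Module.Finite.exists_fin (R := A) (M := M)
  have hs' : Submodule.span A (Set.range (Fin.snoc s 0 : Fin (n + 1) → M)) = ⊤ := by
    rw [eq_top_iff, ← hs, Submodule.span_le]
    rintro _ ⟨i, rfl⟩
    exact Submodule.subset_span ⟨i.castSucc, by simp⟩
  refine key n (Fin.snoc s 0) fun q h hh hk => ?_
  have h1 : rk q (Fin.snoc s 0 : Fin (n + 1) → M) = D q M := by
    rw [rk, span_im q hs', finrank_top]
    rfl
  rw [h1, hr q (by rw [hh]; exact_mod_cast hk)]
  omega

/-- An element of a Noetherian ring that vanishes at all primes of height at most `k` is zero if the associated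
primes have height at most `k`. -/
theorem eq_zero_of_forall [IsNoetherianRing A] (k : ℕ)
    (hAss : ∀ p ∈ associatedPrimes A A, p.height ≤ k) (a : A)
    (ha : ∀ q : PrimeSpectrum A, q.asIdeal.height ≤ k →
      algebraMap A (Localization.AtPrime q.asIdeal) a = 0) : a = 0 := by
  by_contra hne
  obtain ⟨P, hP, hle⟩ := exists_le_isAssociatedPrime_of_isNoetherianRing A a hne
  have hPp : P.IsPrime := hP.isPrime
  have h1 := ha ⟨P, hPp⟩ (hAss P hP)
  rw [IsLocalization.map_eq_zero_iff P.primeCompl] at h1
  obtain ⟨c, hc⟩ := h1
  refine c.2 (hle ?_)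
  rw [Submodule.mem_colon_singleton]
  simpa using hc

theorem main [IsNoetherianRing A] (k : ℕ)
    (hAss : ∀ p ∈ associatedPrimes A A, p.height ≤ k) (d : ℕ) :
    ∀ (M : Type u) [AddCommGroup M] [Module A M] [Module.Finite A M],
      (∀ q : PrimeSpectrum A, q.asIdeal.height ≤ k → Fr q M (k + d)) →
      ∃ N : Submodule A M, Nonempty (N ≃ₗ[A] (Fin d → A)) ∧
        ∀ q : PrimeSpectrum A, q.asIdeal.height ≤ k → Fr q (M ⧸ N) k := by
  induction d with
  | zero =>
    intro M _ _ _ hM
    refine ⟨⊥, ⟨LinearEquiv.ofSubsingleton _ _⟩, fun q hq => ?_⟩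
    obtain ⟨e⟩ := hM q hq
    have e1 : LocalizedModule q.asIdeal.primeCompl (M ⧸ (⊥ : Submodule A M)) ≃ₗ[Localization.AtPrime q.asIdeal]
        LocalizedModule q.asIdeal.primeCompl M :=
      IsLocalizedModule.mapEquiv q.asIdeal.primeCompl (LocalizedModule.mkLinearMap _ _)
        (LocalizedModule.mkLinearMap _ _) (Localization.AtPrime q.asIdeal)
        (Submodule.quotEquivOfEqBot ⊥ rfl)
    exact ⟨e1.trans e⟩
  | succ d ih =>
    intro M _ _ _ hM
    obtain ⟨x, hx⟩ := exists_basic (M := M) k (k + (d + 1)) (by omega) (fun q hq => (hM q hq).D_eq)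
    have hq := fun (q : PrimeSpectrum A) (hq : q.asIdeal.height ≤ k) =>
      Fr.quot (r := k + d) (hM q hq) (hx q hq)
    obtain ⟨N₁, ⟨e₁⟩, hN₁⟩ := ih (M ⧸ Submodule.span A {x}) (fun q h => (hq q h).1)
    have hann : ∀ a : A, a • x = 0 → a = 0 := by
      intro a ha
      refine eq_zero_of_forall k hAss a fun q h => (hq q h).2 _ ?_
      have h2 : (algebraMap A (Localization.AtPrime q.asIdeal) a) •
          (LocalizedModule.mk x 1 : LocalizedModule q.asIdeal.primeCompl M) =
            LocalizedModule.mk (a • x) 1 := by
        rw [← Localization.mk_one_eq_algebraMap, LocalizedModule.mk_smul_mk, mul_one]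
      rw [h2, ha, LocalizedModule.zero_mk]
    let N := N₁.comap (Submodule.span A {x}).mkQ
    have hle : Submodule.span A {x} ≤ N := by
      intro m hm
      change (Submodule.span A {x}).mkQ m ∈ N₁
      rw [Submodule.mkQ_apply, (Submodule.Quotient.mk_eq_zero _).2 hm]
      exact zero_mem _
    -- lift a basis of `N₁`
    have hlift : ∀ i : Fin d, ∃ m : M, (Submodule.span A {x}).mkQ m = (e₁.symm (Pi.single i 1) : M ⧸ _) :=
      fun i => Submodule.mkQ_surjective _ _
    choose m hm using hlift
    refine ⟨N, ?_, fun q h => ?_⟩
    · let v : Fin (d + 1) → M := Fin.cons x m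
      let φ : (Fin (d + 1) → A) →ₗ[A] M := Fintype.linearCombination A v
      have hφ : ∀ c : Fin (d + 1) → A, φ c = c 0 • x + ∑ i, c i.succ • m i := by
        intro c
        simp only [φ, Fintype.linearCombination_apply, Fin.sum_univ_succ, v, Fin.cons_zero, Fin.cons_succ]
      have hφ1 : ∀ c : Fin (d + 1) → A, (Submodule.span A {x}).mkQ (φ c) =
          (e₁.symm (fun i => c i.succ) : M ⧸ _) := by
        intro c
        rw [hφ, map_add, map_sum]
        have h3 : (Submodule.span A {x}).mkQ (c 0 • x) = 0 := by
          rw [Submodule.mkQ_apply, Submodule.Quotient.mk_eq_zero]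
          exact Submodule.smul_mem _ _ (Submodule.mem_span_singleton_self x)
        rw [h3, zero_add]
        have h4 : (fun i => c i.succ) = ∑ i, c i.succ • (Pi.single i (1 : A) : Fin d → A) := by
          conv_lhs => rw [← Finset.univ_sum_single (fun i : Fin d => c i.succ)]
          refine Finset.sum_congr rfl fun i _ => ?_
          rw [← Pi.single_smul, smul_eq_mul, mul_one]
        rw [h4, map_sum, AddSubmonoidClass.coe_finsetSum]
        refine Finset.sum_congr rfl fun i _ => ?_
        rw [map_smul, hm, map_smul, Submodule.coe_smul]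
      have hinj : Function.Injective φ := by
        rw [injective_iff_map_eq_zero]
        intro c hc
        have h5 := hφ1 c
        rw [hc, map_zero] at h5
        have h6 : (fun i : Fin d => c i.succ) = 0 := by
          apply e₁.symm.injective
          rw [map_zero]
          exact Subtype.ext h5.symm
        have h7 : c 0 = 0 := by
          apply hann
          have h8 := hφ c
          rw [hc] at h8
          have h9 : ∀ i : Fin d, c i.succ = 0 := fun i => congrFun h6 i
          simp only [h9, zero_smul, Finset.sum_const_zero, add_zero] at h8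
          exact h8.symm
        funext j
        induction j using Fin.cases with
        | zero => exact h7
        | succ i => exact congrFun h6 i
      have hrange : LinearMap.range φ = N := by
        apply le_antisymm
        · rintro _ ⟨c, rfl⟩
          change (Submodule.span A {x}).mkQ (φ c) ∈ N₁
          rw [hφ1]
          exact Subtype.property _
        · intro n hn
          have hn' : (Submodule.span A {x}).mkQ n ∈ N₁ := hn
          let c' : Fin d → A := e₁ ⟨_, hn'⟩
          have h10 : (Submodule.span A {x}).mkQ (n - φ (Fin.cons 0 c')) = 0 := by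
            rw [map_sub, hφ1]
            simp only [Fin.cons_succ]
            have : (e₁.symm (fun i => c' i) : M ⧸ Submodule.span A {x}) = (Submodule.span A {x}).mkQ n := by
              change (e₁.symm (e₁ ⟨_, hn'⟩) : M ⧸ Submodule.span A {x}) = _
              rw [e₁.symm_apply_apply]
            rw [this, sub_self]
          rw [Submodule.mkQ_apply, Submodule.Quotient.mk_eq_zero, Submodule.mem_span_singleton] at h10
          obtain ⟨a, ha⟩ := h10
          refine ⟨Fin.cons 0 c' + Pi.single 0 a, ?_⟩
          rw [map_add]
          have h11 : φ (Pi.single 0 a) = a • x := by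
            rw [hφ]
            simp
          rw [h11, ha]
          abel
      exact ⟨((LinearEquiv.ofInjective φ hinj).trans (LinearEquiv.ofEq _ _ hrange)).symm⟩
    · obtain ⟨e⟩ := hN₁ q h
      have hmap : N.map (Submodule.span A {x}).mkQ = N₁ :=
        Submodule.map_comap_eq_of_surjective (Submodule.mkQ_surjective _) _
      let e0 : ((M ⧸ Submodule.span A {x}) ⧸ N₁) ≃ₗ[A] M ⧸ N :=
        (Submodule.quotEquivOfEq _ _ hmap.symm).trans
          (Submodule.quotientQuotientEquivQuotient (Submodule.span A {x}) N hle)
      have e1 : LocalizedModule q.asIdeal.primeCompl (M ⧸ N) ≃ₗ[Localization.AtPrime q.asIdeal]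
          LocalizedModule q.asIdeal.primeCompl ((M ⧸ Submodule.span A {x}) ⧸ N₁) :=
        IsLocalizedModule.mapEquiv q.asIdeal.primeCompl (LocalizedModule.mkLinearMap _ _)
          (LocalizedModule.mkLinearMap _ _) (Localization.AtPrime q.asIdeal) e0.symm
      exact ⟨e1.trans e⟩

end K782.BasicElt
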