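import Groth.Agent.ResProp.K782.AmpleV
import Groth.Agent.S1288
import Groth.Agent.Sga67.BlowAmple
import Groth.Agent.Divis.BlowUpFormal
import Groth.Agent.CalgB.ProjImm2
import Groth.Agent.Ega2.AmpleUnit

/-!
# Chow's lemma over a prescribed affine open
-/

set_option autoImplicit false
universe u
open CategoryTheory CategoryTheory.Limits AlgebraicGeometry Opposite TopologicalSpace

namespace K782.ChowOpen

variable {X Y : Scheme.{u}}

/-- An affine scheme of finite type over an affine scheme has an open immersion into a proper scheme with an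
ample module. -/
theorem exists_compactification {S : Scheme.{u}} [IsAffine S] [IsAffine Y] (g : Y ⟶ S) [LocallyOfFiniteType g] :
    ∃ (P : Scheme.{u}) (j : Y ⟶ P) (p : P ⟶ S) (L : P.Modules), IsOpenImmersion j ∧ QuasiCompact j ∧
      IsProper p ∧ j ≫ p = g ∧ CohB1.IsAmple L := by
  have hY : CohB1.IsAmple (Coh.structureModule Y) := Groth.Agent.Ega2.Weight.isAmple_structureModule Y
  have hS : CohB1.IsAmple (Coh.structureModule S) := Groth.Agent.Ega2.Weight.isAmple_structureModule S
  obtain ⟨n, i, hi, hq, hig⟩ := Groth.Agent.CalgB.ProjImm.exists_immersion g hY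
  obtain ⟨hp, L, hL⟩ := (Groth.Agent.CalgB.ProjImm.closedImmersion_iff ⟨_, hS⟩
    (i.imageι ≫ CohB1.ProjSpaceOver.toBase n S)).1 ⟨n, i.imageι, inferInstance, rfl⟩
  refine ⟨i.image, i.toImage, i.imageι ≫ CohB1.ProjSpaceOver.toBase n S, L, inferInstance, inferInstance, hp, ?_, hL⟩
  rw [Scheme.Hom.toImage_imageι_assoc, hig]

/-- A criterion for a morphism to be an isomorphism over an open. -/
theorem isIso_restrict_of_openImmersion {W : Scheme.{u}} (f : Y ⟶ X) (U : X.Opens) (t : W ⟶ Y) [IsOpenImmersion t]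
    (ht : t.opensRange = f ⁻¹ᵁ U) (k : W ⟶ U) [IsIso k] (h : t ≫ f = k ≫ U.ι) : IsIso (f ∣_ U) := by
  have hle : Set.range t ⊆ Set.range (f ⁻¹ᵁ U).ι := by
    rw [Scheme.Opens.range_ι, ← ht]
    exact le_rfl
  let t' : W ⟶ (f ⁻¹ᵁ U : Y.Opens) := IsOpenImmersion.lift (f ⁻¹ᵁ U).ι t hle
  have ht' : t' ≫ (f ⁻¹ᵁ U).ι = t := IsOpenImmersion.lift_fac _ _ _
  have h1 : IsOpenImmersion t' := by
    have : IsOpenImmersion (t' ≫ (f ⁻¹ᵁ U).ι) := by rw [ht']; infer_instance
    exact IsOpenImmersion.of_comp t' (f ⁻¹ᵁ U).ι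
  have h2 : Function.Surjective t' := by
    intro y
    have hy : y.1 ∈ t.opensRange := by rw [ht]; exact y.2
    obtain ⟨w, hw⟩ := hy
    refine ⟨w, Subtype.ext ?_⟩
    rw [← ht'] at hw
    exact hw
  have h3 : IsIso t' := by
    have : Epi t'.base := (TopCat.epi_iff_surjective _).mpr h2
    exact IsOpenImmersion.isIso t'
  have h4 : t' ≫ (f ∣_ U) = k := by
    rw [← cancel_mono U.ι, Category.assoc, morphismRestrict_ι, ← Category.assoc, ht', h]
  have h5 : IsIso (t' ≫ (f ∣_ U)) := by rw [h4]; infer_instance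
  exact IsIso.of_isIso_comp_left t' (f ∣_ U)

/-- The closure of an open subscheme of a modification: from a proper `h : Z ⟶ X` and an open immersion
`o : W ⟶ Z` identified over `X` with an open `U` of `X` one obtains a closed subscheme of `Z` which is an
isomorphism over `U` with dense preimage. -/
theorem exists_closure {Z W : Scheme.{u}} [IsLocallyNoetherian Z] [CompactSpace Z] (h : Z ⟶ X) [IsProper h]
    (U : X.Opens) (o : W ⟶ Z) [IsOpenImmersion o] (k : W ⟶ U) [IsIso k] (hk : o ≫ h = k ≫ U.ι) :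
    ∃ (C : Scheme.{u}) (c : C ⟶ Z), IsClosedImmersion c ∧ IsIso ((c ≫ h) ∣_ U) ∧
      Dense (((c ≫ h) ⁻¹ᵁ U : C.Opens) : Set C) := by
  have hN : IsNoetherian Z := {}
  have hq : QuasiCompact o := inferInstance
  -- the image of `W` is closed in `h⁻¹(U)`
  have hcl : ∀ z : Z, h z ∈ U → z ∈ closure (Set.range o) → z ∈ Set.range o := by
    have hle : Set.range o ⊆ Set.range (h ⁻¹ᵁ U).ι := by
      rw [Scheme.Opens.range_ι]
      rintro _ ⟨w, rfl⟩
      change h (o w) ∈ U
      rw [← Scheme.Hom.comp_apply, hk, Scheme.Hom.comp_apply]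
      exact (k w).2
    let o' : W ⟶ (h ⁻¹ᵁ U : Z.Opens) := IsOpenImmersion.lift (h ⁻¹ᵁ U).ι o hle
    have ho' : o' ≫ (h ⁻¹ᵁ U).ι = o := IsOpenImmersion.lift_fac _ _ _
    have h1 : o' ≫ (h ∣_ U) = k := by
      rw [← cancel_mono U.ι, Category.assoc, morphismRestrict_ι, ← Category.assoc, ho', hk]
    have h2 : IsClosedImmersion (inv k ≫ o') := by
      have h3 : (inv k ≫ o') ≫ (h ∣_ U) = 𝟙 _ := by rw [Category.assoc, h1, IsIso.inv_hom_id]
      have h4 : IsClosedImmersion ((inv k ≫ o') ≫ (h ∣_ U)) := by rw [h3]; infer_instance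
      exact IsClosedImmersion.of_comp (inv k ≫ o') (h ∣_ U)
    have h5 : IsClosed (Set.range o') := by
      have h6 : IsClosedImmersion o' := by
        have : o' = k ≫ (inv k ≫ o') := by simp
        rw [this]
        infer_instance
      exact o'.isClosedEmbedding.isClosed_range
    intro z hz hzc
    have h7 : (⟨z, hz⟩ : (h ⁻¹ᵁ U : Z.Opens)) ∈ closure (Set.range o') := by
      rw [(h ⁻¹ᵁ U).ι.isOpenEmbedding.isInducing.closure_eq_preimage_closure_image, ← Set.range_comp]
      have h8 : (h ⁻¹ᵁ U).ι ∘ o' = o := by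
        rw [← ho']
        rfl
      rw [h8]
      exact hzc
    rw [h5.closure_eq] at h7
    obtain ⟨w, hw⟩ := h7
    refine ⟨w, ?_⟩
    rw [← ho', Scheme.Hom.comp_apply, hw]
    rfl
  have hr : o.toImage.opensRange = (o.imageι ≫ h) ⁻¹ᵁ U := by
    ext z
    constructor
    · rintro ⟨w, rfl⟩
      change (o.imageι ≫ h) (o.toImage w) ∈ U
      rw [← Scheme.Hom.comp_apply, Scheme.Hom.toImage_imageι_assoc, hk, Scheme.Hom.comp_apply]
      exact (k w).2
    · intro hz
      have h1 : o.imageι z ∈ closure (Set.range o) := by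
        have h2 : z ∈ closure (Set.range o.toImage) := by
          rw [o.toImage.denseRange.closure_range]
          trivial
        have h3 := image_closure_subset_closure_image o.imageι.continuous ⟨z, h2, rfl⟩
        rw [← Set.range_comp] at h3
        have h4 : o.imageι ∘ o.toImage = o := by
          conv_rhs => rw [← o.toImage_imageι]
          rfl
        rwa [h4] at h3
      obtain ⟨w, hw⟩ := hcl _ hz h1
      refine ⟨w, ?_⟩
      apply o.imageι.isClosedEmbedding.injective
      rw [← Scheme.Hom.comp_apply, o.toImage_imageι]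
      exact hw
  refine ⟨o.image, o.imageι, inferInstance, ?_, ?_⟩
  · exact isIso_restrict_of_openImmersion _ U o.toImage hr k (by rw [Scheme.Hom.toImage_imageι_assoc, hk])
  · rw [← hr]
    exact o.toImage.denseRange

/-- Chow's lemma over a prescribed affine open: over a Noetherian affine base, a separated scheme of finite type has
a proper modification with an ample module, which is an isomorphism over a given affine open, with dense
preimage. -/
theorem exists_ample_modification {S : Scheme.{u}} [IsAffine S] [AlgebraicGeometry.IsNoetherian S] (g : X ⟶ S)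
    [IsSeparated g] [LocallyOfFiniteType g] [QuasiCompact g] (U : X.Opens) (hU : IsAffineOpen U) :
    ∃ (C : Scheme.{u}) (f : C ⟶ X) (L : C.Modules), IsProper f ∧ CohB1.IsAmple L ∧ IsIso (f ∣_ U) ∧
      Dense ((f ⁻¹ᵁ U : C.Opens) : Set C) := by
  have hUa : IsAffine U := hU
  have hX : IsLocallyNoetherian X := LocallyOfFiniteType.isLocallyNoetherian g
  have hXc : CompactSpace X := QuasiCompact.compactSpace_of_compactSpace g
  have hXN : AlgebraicGeometry.IsNoetherian X := {}
  obtain ⟨P, j, p, LP, hj, hjq, hp, hjp, hLP⟩ := exists_compactification (U.ι ≫ g)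
  have hPN : IsLocallyNoetherian P := LocallyOfFiniteType.isLocallyNoetherian p
  have hPc : CompactSpace P := QuasiCompact.compactSpace_of_compactSpace p
  obtain ⟨𝓘, Y', b, hb, hadm, V', hle, h, hh, k, hk1, hk2⟩ := Groth.Agent.S1288.result g U hU.isCompact j p hjp
  have hbp : IsProper b := Groth.Agent.Flat2C.BlowProper.isProper_of_isBlowUp hb hadm.1
  obtain ⟨M, hM⟩ := Groth.Agent.Sga67.BlowAmple.exists_isAmple hb LP hLP
  have hYN : IsLocallyNoetherian Y' := LocallyOfFiniteType.isLocallyNoetherian b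
  have hYc : CompactSpace Y' := QuasiCompact.compactSpace_of_compactSpace b
  have hY'N : AlgebraicGeometry.IsNoetherian Y' := {}
  have hV'c : CompactSpace V' := isCompact_iff_compactSpace.mp (NoetherianSpace.isCompact (V' : Set Y'))
  have hMV : CohB1.IsAmple (M.restrict V'.ι) :=
    Groth.Agent.CalgB.ProjImm.isAmple_restrict_of_isCompact hM V' (NoetherianSpace.isCompact _)
  have hbi : IsIso (b ∣_ j.opensRange) :=
    Groth.Agent.Divis.BlowUpFormal.isIso_morphismRestrict_compl_support hb j.opensRange hadm.2.symm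
  have hki : IsIso k := by
    have h1 : k ≫ j.isoOpensRange.hom = b ∣_ j.opensRange := by
      rw [← cancel_mono j.opensRange.ι, Category.assoc, Scheme.Hom.isoOpensRange_hom_ι, hk1]
    have h2 : IsIso (k ≫ j.isoOpensRange.hom) := by rw [h1]; exact hbi
    exact IsIso.of_isIso_comp_right k j.isoOpensRange.hom
  obtain ⟨C, c, hc, hci, hcd⟩ := exists_closure h U (Y'.homOfLE hle) k hk2
  refine ⟨C, c ≫ h, (Scheme.Modules.pullback c).obj (M.restrict V'.ι), inferInstance, ?_, hci, hcd⟩
  exact Groth.Agent.CalgB.AmpleBase.isAmple_pullback_of_isImmersion c hMV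

end K782.ChowOpen
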