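import Groth.Agent.ResProp.K782.AmpleGlue
import Groth.Agent.ResProp.K782.GenPt
import Groth.Agent.CycB.PushLocal
import Groth.Agent.Divis.AmpleFin
import Groth.Agent.Divis.NormAmple
import Groth.Agent.CalgB.ProjImm2
import Groth.Agent.Ega2.SecCalc
import Groth.Prelude.Def_KSix

/-!
# Points of codimension one and ample modules
-/

set_option autoImplicit false
universe u
open CategoryTheory CategoryTheory.Limits AlgebraicGeometry Opposite TopologicalSpace
open Groth.Agent.Fdesc Groth.Agent.Fdesc.LocGen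

namespace K782.CodimOne

variable {X Y : Scheme.{u}}

/-- A point of codimension at most one outside a dense open is maximal in the complement. -/
theorem eq_of_specializes [IsLocallyNoetherian X] (U : X.Opens) (hU : Dense (U : Set X)) {y' y : X}
    (hy' : y' ∉ U) (h : y' ⤳ y) (hy : ringKrullDim (X.presheaf.stalk y) ≤ 1) : y' = y := by
  by_contra hne
  obtain ⟨ζ, hζU, hζ, -⟩ := K782.GenPt.exists_mem_of_dense U hU y'
  have hζne : ζ ≠ y' := fun h => hy' (h ▸ hζU)
  rw [ringKrullDim_stalk_eq_coheight] at hy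
  have hy2 : Order.coheight y ≤ 1 := by exact_mod_cast hy
  have key : ∀ {a b : X}, a ⤳ b → a ≠ b → Order.coheight a + 1 ≤ Order.coheight b := by
    intro a b hab hne
    have hle : b ≤ a := hab
    refine Order.coheight_add_one_le (lt_of_le_not_ge hle fun h' => hne ?_)
    have h'' : b ⤳ a := h'
    exact (hab.antisymm h'').eq
  have h1 := key h hne
  have h2 := key hζ hζne
  have h3 : (1 : ℕ∞) + 1 ≤ 1 :=
    (add_le_add_left ((le_add_left le_rfl).trans h2) 1).trans (h1.trans hy2)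
  exact absurd h3 (by decide)

/-- No specializations in the fibres over points of codimension at most one of a birational morphism. -/
theorem eq_of_specializes_fibre [IsLocallyNoetherian X] (f : Y ⟶ X) [LocallyOfFiniteType f]
    (U : X.Opens) (hU' : Dense ((f ⁻¹ᵁ U : Y.Opens) : Set Y)) (hiso : IsIso (f ∣_ U)) (x : X)
    (hx : ringKrullDim (X.presheaf.stalk x) ≤ 1) (y y' : Y) (h : y ⤳ y') (hy : f y = x) (hy' : f y' = x) :
    y = y' := by
  by_contra hne
  have h7 := Groth.Agent.CycB.RelDim.rtd_lt_of_specializes f h hne (hy.trans hy'.symm)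
  rw [K782.GenPt.rtd_eq_zero_of_codim_le_one f U hU' hiso y (by rw [hy]; exact hx),
    K782.GenPt.rtd_eq_zero_of_codim_le_one f U hU' hiso y' (by rw [hy']; exact hx)] at h7
  exact lt_irrefl _ h7

/-- A proper birational morphism is finite near the points of codimension at most one of the target. -/
theorem exists_isFinite_nhd [IsLocallyNoetherian X] (f : Y ⟶ X) [IsProper f]
    (U : X.Opens) (hU' : Dense ((f ⁻¹ᵁ U : Y.Opens) : Set Y)) (hiso : IsIso (f ∣_ U)) (x : X)
    (hx : ringKrullDim (X.presheaf.stalk x) ≤ 1) : ∃ V : X.Opens, x ∈ V ∧ IsFinite (f ∣_ V) :=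
  Groth.Agent.CycB.PushLocal.exists_isFinite_restrict f x fun y hy =>
    Groth.Agent.CycB.PushLocal.quasiFiniteAt_of_discrete f x
      (fun a b hab ha hb => eq_of_specializes_fibre f U hU' hiso x hx a b hab ha hb) y hy

/-- For a closed morphism, an ample module on the source and a point with finite fibre there are small affine
neighbourhoods whose preimage is the locus of a section of a power of the ample module. -/
theorem exists_good_nhd [QuasiSeparatedSpace Y] (f : Y ⟶ X) (hf : IsClosedMap f) {L : Y.Modules}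
    (hL : CohB1.IsAmple L) (y : X) (hfin : (f.base ⁻¹' {y}).Finite) (Ω : X.Opens) (hy : y ∈ Ω) :
    ∃ G : X.Opens, G ≤ Ω ∧ IsAffineOpen G ∧ y ∈ G ∧ ∃ (m : ℕ)
      (w : Coh.structureModule Y ⟶ CohB1.tensorPow L (m + 1)), CohB1.genLocus _ w = f ⁻¹ᵁ G := by
  have : CompactSpace Y := hL.2.1
  obtain ⟨Ω', hΩ', hyΩ', hle⟩ := Groth.Agent.PerfB.AffHom.exists_affine_le Ω hy
  obtain ⟨m, s, hEs, hsΩ, hs⟩ := Groth.Agent.Divis.AmpleFin.exists_genLocus_of_finite hL (f.base ⁻¹' {y})
    hfin (f ⁻¹ᵁ Ω') (fun z (hz : f z = y) => by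
      change f z ∈ Ω'
      rw [hz]
      exact hyΩ')
  have hC : IsClosed (f '' (CohB1.genLocus _ s : Set Y)ᶜ) := hf _ (CohB1.genLocus _ s).isOpen.isClosed_compl
  let O : X.Opens := ⟨(f '' (CohB1.genLocus _ s : Set Y)ᶜ)ᶜ, hC.isOpen_compl⟩
  have hyO : y ∈ O := by
    rintro ⟨z, hz, hzy⟩
    exact hz (hEs hzy)
  obtain ⟨g, hgO, hyg⟩ := hΩ'.exists_basicOpen_le ⟨y, hyO⟩ hyΩ'
  have h1 : f ⁻¹ᵁ X.basicOpen g ≤ CohB1.genLocus _ s := by
    intro z hz
    by_contra hzs
    exact hgO hz ⟨z, hzs, rfl⟩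
  obtain ⟨m', t, ht⟩ := exists_genLocus_eq_basicOpen hL.1 m s (ores hsΩ (f.app Ω' g))
  refine ⟨X.basicOpen g, (X.basicOpen_le g).trans hle, hΩ'.basicOpen g, hyg, m', t, ?_⟩
  rw [ht]
  have h2 : Y.basicOpen (ores hsΩ (f.app Ω' g)) = CohB1.genLocus _ s ⊓ Y.basicOpen (f.app Ω' g) :=
    Scheme.basicOpen_res Y (f.app Ω' g) (homOfLE hsΩ).op
  rw [h2, ← Scheme.preimage_basicOpen]
  exact inf_eq_right.mpr h1

/-- Restriction of a section to an open subscheme. -/
theorem exists_restrict_sec (i : Y ⟶ X) [IsOpenImmersion i] {M : X.Modules} (w : Coh.structureModule X ⟶ M) :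
    ∃ w' : Coh.structureModule Y ⟶ M.restrict i, CohB1.genLocus _ w' = i ⁻¹ᵁ CohB1.genLocus _ w := by
  let w' : Coh.structureModule Y ⟶ M.restrict i := homOf (toRestrict i (sec w (i ''ᵁ ⊤)))
  have hw' : ∀ O : Y.Opens, sec w' O = toRestrict i (sec w (i ''ᵁ O)) := by
    intro O
    rw [sec_homOf, res_toRestrict, res_sec]
  have key : ∀ O : Y.Opens, O ≤ CohB1.genLocus _ w' ↔ O ≤ i ⁻¹ᵁ CohB1.genLocus _ w := by
    intro O
    rw [le_genLocus_iff, hw', isGen_toRestrict_iff, ← le_genLocus_iff]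
    constructor
    · intro h x hx
      exact h ⟨x, hx, rfl⟩
    · rintro h _ ⟨x, hx, rfl⟩
      exact h hx
  exact ⟨w', le_antisymm ((key _).1 le_rfl) ((key _).2 le_rfl)⟩

/-- Local properties of a morphism over a union of opens. -/
theorem of_iSup (q : Y ⟶ X) (Q : MorphismProperty Scheme.{u}) [IsZariskiLocalAtTarget Q] {J : Type*}
    (W : J → X.Opens) (h : ∀ i, Q (q ∣_ W i)) : Q (q ∣_ (⨆ i, W i)) := by
  rw [IsZariskiLocalAtTarget.iff_of_iSup_eq_top (P := Q) (fun i => (⨆ i, W i).ι ⁻¹ᵁ W i)]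
  · intro i
    have e : (⨆ i, W i).ι ''ᵁ ((⨆ i, W i).ι ⁻¹ᵁ W i) = W i := by
      rw [Scheme.Hom.image_preimage_eq_opensRange_inf, Scheme.Opens.opensRange_ι]
      exact inf_eq_right.mpr (le_iSup W i)
    rw [Q.arrow_mk_iso_iff (morphismRestrictRestrict q (⨆ i, W i) ((⨆ i, W i).ι ⁻¹ᵁ W i) ≪≫
      morphismRestrictEq q e)]
    exact h i
  · apply (⨆ i, W i).ι.image_injective
    dsimp
    rw [Scheme.Hom.image_iSup, Scheme.Hom.image_top_eq_opensRange, Scheme.Opens.opensRange_ι]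
    simp [Scheme.Hom.image_preimage_eq_opensRange_inf, le_iSup W]

/-- Restriction to a smaller open. -/
theorem restrict_restrict (q : Y ⟶ X) (Q : MorphismProperty Scheme.{u}) [Q.RespectsIso] (V W : X.Opens)
    (hW : W ≤ V) : Q ((q ∣_ V) ∣_ (V.ι ⁻¹ᵁ W)) ↔ Q (q ∣_ W) := by
  have e : V.ι ''ᵁ (V.ι ⁻¹ᵁ W) = W := by
    rw [Scheme.Hom.image_preimage_eq_opensRange_inf, Scheme.Opens.opensRange_ι]
    exact inf_eq_right.mpr hW
  exact Q.arrow_mk_iso_iff (morphismRestrictRestrict q V (V.ι ⁻¹ᵁ W) ≪≫ morphismRestrictEq q e)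

/-- The points of codimension at most one outside a dense open `U` of a Noetherian scheme: they are finitely many,
and have neighbourhoods which meet pairwise inside `U`. -/
theorem exists_separation [AlgebraicGeometry.IsNoetherian X] (U : X.Opens) (hU : Dense (U : Set X)) :
    {y : X | y ∉ U ∧ ringKrullDim (X.presheaf.stalk y) ≤ 1}.Finite ∧
    ∃ Ω : {y : X // y ∉ U ∧ ringKrullDim (X.presheaf.stalk y) ≤ 1} → X.Opens, (∀ j, j.1 ∈ Ω j) ∧
      ∀ i j, i ≠ j → Ω i ⊓ Ω j ≤ U := by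
  obtain ⟨T, hTfin, hTc, hTi, hT⟩ := NoetherianSpace.exists_finite_set_isClosed_irreducible
    (s := (U : Set X)ᶜ) U.isOpen.isClosed_compl
  -- the members of `T` containing a point of codimension one
  have key : ∀ y : X, y ∉ U → ringKrullDim (X.presheaf.stalk y) ≤ 1 → ∀ Z ∈ T, y ∈ Z → Z = closure {y} := by
    intro y hyU hy Z hZ hyZ
    obtain ⟨η, hη⟩ := QuasiSober.sober (hTi Z hZ) (hTc Z hZ)
    have hηU : η ∉ U := by
      have : η ∈ (U : Set X)ᶜ := by
        rw [hT]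
        exact ⟨Z, hZ, hη.mem⟩
      exact this
    have hs : η ⤳ y := by
      rw [specializes_iff_mem_closure, hη.def]
      exact hyZ
    rw [← eq_of_specializes U hU hηU hs hy]
    exact hη.def.symm
  have hex : ∀ y : X, y ∉ U → ∃ Z ∈ T, y ∈ Z := by
    intro y hyU
    have : y ∈ (U : Set X)ᶜ := hyU
    rw [hT] at this
    exact this
  refine ⟨?_, fun j => ⟨(⋃₀ {Z | Z ∈ T ∧ j.1 ∉ Z})ᶜ, ?_⟩, ?_, ?_⟩
  · have h1 : {y : X | y ∉ U ∧ ringKrullDim (X.presheaf.stalk y) ≤ 1} ⊆
        {y : X | closure {y} ∈ T} := by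
      rintro y ⟨hyU, hy⟩
      obtain ⟨Z, hZ, hyZ⟩ := hex y hyU
      change closure {y} ∈ T
      rw [← key y hyU hy Z hZ hyZ]
      exact hZ
    refine Set.Finite.subset (hTfin.preimage ?_) h1
    intro a _ b _ hab
    have hab' : closure {a} = closure {b} := hab
    exact ((specializes_iff_closure_subset.mpr hab'.ge).antisymm
      (specializes_iff_closure_subset.mpr hab'.le)).eq
  · refine IsClosed.isOpen_compl (self := ?_)
    rw [Set.sUnion_eq_biUnion]
    exact (hTfin.subset fun Z hZ => hZ.1).isClosed_biUnion fun Z hZ => hTc Z hZ.1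
  · rintro j ⟨Z, hZ, hjZ⟩
    exact hZ.2 hjZ
  · rintro i j hij z ⟨hzi, hzj⟩
    by_contra hzU
    obtain ⟨Z, hZ, hzZ⟩ := hex z hzU
    have hi : i.1 ∈ Z := by
      by_contra h
      exact hzi ⟨Z, ⟨hZ, h⟩, hzZ⟩
    have hj : j.1 ∈ Z := by
      by_contra h
      exact hzj ⟨Z, ⟨hZ, h⟩, hzZ⟩
    have h1 := key i.1 i.2.1 i.2.2 Z hZ hi
    have h2 := key j.1 j.2.1 j.2.2 Z hZ hj
    have hab' : closure {i.1} = closure {j.1} := h1.symm.trans h2
    exact hij (Subtype.ext ((specializes_iff_closure_subset.mpr hab'.ge).antisymm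
      (specializes_iff_closure_subset.mpr hab'.le)).eq)

end K782.CodimOne
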