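import Groth.Agent.LoccohA.TDColim
import Groth.Agent.PerfB.AffHom
import Groth.Agent.PerfA.QCohEpi
import Groth.Agent.CohqB.QC7

/-!
# Sections of direct sums of modules over compact opens, and direct images of epimorphisms from direct sums
-/

set_option autoImplicit false
universe u
open CategoryTheory CategoryTheory.Limits AlgebraicGeometry Opposite TopologicalSpace

namespace K782.CoprodSec

open CoproductsFromFiniteFiltered

theorem sum_π_ι {A : Type*} [Category* A] [Preadditive A] {ι : Type*} [Fintype ι] [DecidableEq ι] (E : ι → A)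
    [HasCoproduct E] : ∑ i, Sigma.π E i ≫ Sigma.ι E i = 𝟙 (∐ E) := by
  classical
  apply Sigma.hom_ext
  intro i
  rw [Preadditive.comp_sum, Finset.sum_eq_single i]
  · rw [← Category.assoc, Sigma.ι_π_eq_id, Category.id_comp, Category.comp_id]
  · intro j _ hij
    rw [← Category.assoc, Sigma.ι_π_of_ne _ (Ne.symm hij), zero_comp]
  · intro h; exact absurd (Finset.mem_univ i) h

variable {X : Scheme.{u}}

/-- Every section of `∐ M` over a compact open comes from a finite sub-coproduct. -/
theorem exists_finset_sub [QuasiSeparatedSpace X] {J : Type u} (M : J → X.Modules) {U : X.Opens}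
    (hU : IsCompact (U : Set X)) (x : Γ(∐ M, U)) :
    ∃ (S : Finset (Discrete J)) (y : Γ(∐ fun s : {s // s ∈ S} => M s.1.as, U)),
      (Sigma.desc fun s : {s // s ∈ S} => Sigma.ι M s.1.as).app U y = x := by
  classical
  have h0 : PrespectralSpace X := inferInstance
  have h0' : PrespectralSpace X.toTopCat := h0
  have h0a : QuasiSeparatedSpace X.toTopCat := inferInstanceAs (QuasiSeparatedSpace X)
  have h2 : PreservesColimitsOfShape (Finset (Discrete J)) (Groth.Agent.CohqB.DevSupport.toAbF X) :=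
    inferInstance
  have hc := isColimitOfPreserves (Groth.Agent.CohqB.DevSupport.toAbF X)
    (isColimitFiniteSubproductsCocone M)
  obtain ⟨S, y, hy⟩ := Groth.Agent.CohtopA.ColimSections.exists_rep_of_isCompact hc hU x
  exact ⟨S, y, hy⟩

theorem app_sum {M N : X.Modules} {ι : Type*} (s : Finset ι) (φ : ι → (M ⟶ N)) (U : X.Opens) (x : Γ(M, U)) :
    (∑ i ∈ s, φ i).app U x = ∑ i ∈ s, (φ i).app U x := by
  classical
  induction s using Finset.induction_on with
  | empty =>
    simp only [Finset.sum_empty]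
    rfl
  | insert a s ha ih =>
    rw [Finset.sum_insert ha, Finset.sum_insert ha, ← ih]
    rfl

/-- Every section of `∐ M` over a compact open is a finite sum of sections of the members. -/
theorem exists_finset_sum [QuasiSeparatedSpace X] {J : Type u} (M : J → X.Modules) {U : X.Opens}
    (hU : IsCompact (U : Set X)) (x : Γ(∐ M, U)) :
    ∃ (S : Finset (Discrete J)) (t : ∀ s : {s // s ∈ S}, Γ(M s.1.as, U)),
      x = ∑ s : {s // s ∈ S}, (Sigma.ι M s.1.as).app U (t s) := by
  classical
  obtain ⟨S, y, rfl⟩ := exists_finset_sub M hU x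
  refine ⟨S, fun s => (Sigma.π (fun s : {s // s ∈ S} => M s.1.as) s).app U y, ?_⟩
  have h1 := sum_π_ι (fun s : {s // s ∈ S} => M s.1.as)
  have h2 : y = ∑ s : {s // s ∈ S}, ((Sigma.π (fun s : {s // s ∈ S} => M s.1.as) s ≫
      Sigma.ι (fun s : {s // s ∈ S} => M s.1.as) s).app U y) := by
    rw [← app_sum, h1]
    rfl
  conv_lhs => rw [h2]
  rw [map_sum]
  refine Finset.sum_congr rfl fun s _ => ?_
  have h3 : Sigma.ι (fun s : {s // s ∈ S} => M s.1.as) s ≫
      (Sigma.desc fun s : {s // s ∈ S} => Sigma.ι M s.1.as) = Sigma.ι M s.1.as := by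
    rw [Sigma.ι_desc]
  rw [← h3]
  rfl

/-- A map `f_* G ⟶ N` which is surjective on sections over affine opens stays so after composing with the
map from `∐ f_* E_k` given by an epimorphism `∐ E_k ⟶ G`. -/
theorem epi_push_desc {X Y : Scheme.{u}} [QuasiSeparatedSpace X] (f : X ⟶ Y) [IsAffineHom f] {κ : Type u}
    (E : κ → X.Modules) (hE : ∀ k, Coh.IsQCoh (E k)) {G : X.Modules} (hG : Coh.IsQCoh G) (π : (∐ E) ⟶ G) [Epi π]
    {N : Y.Modules} (θ : (Scheme.Modules.pushforward f).obj G ⟶ N)
    (hθ : ∀ (V : Y.Opens) (_ : IsAffineOpen V) (n : Γ(N, V)), ∃ g, θ.app V g = n) :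
    Epi (Sigma.desc fun k => (Scheme.Modules.pushforward f).map (Sigma.ι E k ≫ π) ≫ θ) := by
  refine Groth.Agent.PerfB.AffHom.epi_of_affine fun V hV n => ?_
  obtain ⟨g, hg⟩ := hθ V hV n
  have hq : Coh.IsQCoh (∐ E) := Groth.Agent.CohqB.QC7.isQCoh_coproduct E hE
  obtain ⟨x, hx⟩ := Groth.Agent.PerfA.QCohEpi.app_surjective_of_epi π (hV.preimage f) g
  obtain ⟨S, t, ht⟩ := exists_finset_sum E (hV.preimage f).isCompact x
  refine ⟨∑ s : {s // s ∈ S}, (Sigma.ι (fun k => (Scheme.Modules.pushforward f).obj (E k)) s.1.as).app V (t s), ?_⟩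
  rw [map_sum]
  have h1 : ∀ s : {s // s ∈ S}, (Sigma.desc fun k => (Scheme.Modules.pushforward f).map (Sigma.ι E k ≫ π) ≫ θ).app V
      ((Sigma.ι (fun k => (Scheme.Modules.pushforward f).obj (E k)) s.1.as).app V (t s)) =
      θ.app V (π.app (f ⁻¹ᵁ V) ((Sigma.ι E s.1.as).app (f ⁻¹ᵁ V) (t s))) := by
    intro s
    have h2 : Sigma.ι (fun k => (Scheme.Modules.pushforward f).obj (E k)) s.1.as ≫
      (Sigma.desc fun k => (Scheme.Modules.pushforward f).map (Sigma.ι E k ≫ π) ≫ θ) =
        (Scheme.Modules.pushforward f).map (Sigma.ι E s.1.as ≫ π) ≫ θ := by rw [Sigma.ι_desc]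
    exact congrArg (fun φ : (Scheme.Modules.pushforward f).obj (E s.1.as) ⟶ N => φ.app V (t s)) h2
  rw [Finset.sum_congr rfl fun s _ => h1 s, ← map_sum]
  refine Eq.trans (congrArg (θ.app V) ?_) hg
  refine Eq.trans ?_ hx
  rw [ht, map_sum]
  rfl

end K782.CoprodSec
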