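import Groth.Agent.Sga67.RoofLemma
import Groth.Agent.S0026
import Groth.Agent.S0012
import Groth.Agent.CohqB.HSeqMod
import Groth.Agent.Fga.HShift
import Groth.Agent.Ega1.QcqsPush
import Groth.Agent.Fdesc.LocGen

/-!
# Coherent modules which agree outside a closed subscheme of small cohomological dimension
-/

set_option autoImplicit false
universe u
open CategoryTheory CategoryTheory.Limits AlgebraicGeometry Opposite TopologicalSpace
open Groth.Agent.Fdesc.LocGen Groth.Agent.CohqB.HSeqMod

namespace K782.FinExt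

variable {X : Scheme.{u}}

/-- A morphism from a reduced scheme with set-theoretic image in a closed subscheme factors. -/
theorem ker_le_ker_of_isReduced {X Y Z : Scheme.{u}} [IsReduced X] (i : Z ⟶ Y) [IsClosedImmersion i]
    (f : X ⟶ Y) [QuasiCompact f] (h : Set.range f ⊆ Set.range i) : i.ker ≤ f.ker := by
  have h1 : f.ker = Scheme.IdealSheafData.vanishingIdeal (.closure (Set.range f)) := by
    rw [← Set.image_univ, ← TopologicalSpace.Closeds.coe_top,
      ← Scheme.IdealSheafData.map_vanishingIdeal, Scheme.IdealSheafData.vanishingIdeal_top,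
      Scheme.nilradical_eq_bot, Scheme.IdealSheafData.map_bot]
  rw [h1, ← Scheme.IdealSheafData.le_support_iff_le_vanishingIdeal,
    TopologicalSpace.Closeds.closure_le]
  exact h.trans i.range_subset_ker_support

theorem eq_zero_of_isZero {M : X.Modules} (h : IsZero M) (V : X.Opens) (m : Γ(M, V)) : m = 0 := by
  have h1 : 𝟙 M = 0 := h.eq_of_src _ _
  have h2 := congr(($h1).app V m)
  exact h2

theorem isZero_of_sections {M : X.Modules} (h : ∀ (V : X.Opens) (m : Γ(M, V)), m = 0) : IsZero M := by
  rw [IsZero.iff_id_eq_zero]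
  apply Scheme.Modules.hom_ext
  intro V
  ext m
  exact (h V _).trans (h V _).symm

theorem app_injective_of_mono {M N : X.Modules} (φ : M ⟶ N) [Mono φ] (U : X.Opens) :
    Function.Injective (φ.app U) := by
  have h1 : Mono ((Scheme.Modules.toPresheaf X).map φ) := inferInstance
  have h2 : Mono (((Scheme.Modules.toPresheaf X).map φ).app (op U)) := inferInstance
  exact (AddCommGrpCat.mono_iff_injective _).1 h2

/-- The direct image of a nonzero ideal of an integral closed subscheme vanishes on an open only if the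
open does not meet the subscheme. -/
theorem range_subset {Z : Scheme.{u}} (i : Z ⟶ X) [IsClosedImmersion i] [IsIntegral Z] {I : Z.Modules}
    (ι : I ⟶ Coh.structureModule Z) [Mono ι] (hI : ¬ IsZero I) (U : X.Opens)
    (h0 : IsZero (((Coh.push i).obj I).restrict U.ι)) : Set.range i ⊆ (U : Set X)ᶜ := by
  rintro _ ⟨z, rfl⟩ hz
  apply hI
  refine isZero_of_sections fun V m => ?_
  by_cases hVe : (V : Set Z).Nonempty
  swap
  · have hV0 : V = ⊥ := by
      ext x
      exact ⟨fun h => (hVe ⟨x, h⟩).elim, fun h => h.elim⟩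
    subst hV0
    exact res_ext I (fun i : PEmpty.{1} => i.elim) (fun i => i.elim) bot_le (fun i => i.elim)
  apply app_injective_of_mono ι V
  rw [map_zero]
  -- the topology of `Z` is induced from `X`
  obtain ⟨W, hW⟩ : ∃ W : X.Opens, i ⁻¹ᵁ W = V := by
    obtain ⟨W, hW, hWV⟩ := i.isClosedEmbedding.isInducing.isOpen_iff.mp V.2
    exact ⟨⟨W, hW⟩, TopologicalSpace.Opens.ext hWV⟩
  obtain ⟨z', hz'⟩ := nonempty_preirreducible_inter V.2 (i ⁻¹ᵁ U).2 hVe ⟨z, hz⟩
  have hle : i ⁻¹ᵁ (W ⊓ U) ≤ V := by
    rw [← hW]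
    exact fun x hx => hx.1
  have hne : Nonempty (i ⁻¹ᵁ (W ⊓ U) : Z.Opens) := ⟨⟨z', by
    have := hz'.1
    rw [← hW] at this
    exact this, hz'.2⟩⟩
  have hinj := map_injective_of_isIntegral Z (homOfLE hle)
  have h1 : res I hle m = 0 := by
    have h2 : ∀ (V' : X.Opens) (hV' : V' ≤ U) (m' : Γ((Coh.push i).obj I, V')), m' = 0 := by
      intro V' hV' m'
      have h3 : U.ι ''ᵁ (U.ι ⁻¹ᵁ V') = V' := by
        rw [Scheme.Hom.image_preimage_eq_opensRange_inf, Scheme.Opens.opensRange_ι, inf_eq_right.mpr hV']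
      have h4 := eq_zero_of_isZero h0 (U.ι ⁻¹ᵁ V')
        ((toRestrict (M := (Coh.push i).obj I) U.ι) (res _ h3.le m'))
      have h5 : res _ h3.le m' = 0 := (toRestrict (M := (Coh.push i).obj I) U.ι).injective (h4.trans (map_zero _).symm)
      have h6 : res ((Coh.push i).obj I) h3.ge (res _ h3.le m') = m' := by
        rw [res_res, res_refl]
      rw [← h6, h5, map_zero]
    exact h2 (W ⊓ U) inf_le_right (res I hle m)
  apply hinj
  change res (Coh.structureModule Z) hle (ι.app V m) = _
  rw [← app_res, h1, map_zero]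
  exact (map_zero _).symm

/-- Cohomology of a coherent module which vanishes outside `Z`. -/
theorem subsingleton_of_isZero_restrict [IsNoetherian X] {Z : Scheme.{u}} (ι : Z ⟶ X)
    [IsClosedImmersion ι] (k : ℕ)
    (hcd : ∀ G : Z.Modules, Coh.IsQCoh G → ∀ i : ℕ, k + 1 ≤ i → Subsingleton (Coh.HH Z G i))
    (U : X.Opens) (hU : (U : Set X) = (Set.range ι.base)ᶜ) (M : X.Modules) (hM : Coh.IsCoh M)
    (h0 : IsZero (M.restrict U.ι)) (i : ℕ) (hi : k + 1 ≤ i) : Subsingleton (Coh.HH X M i) := by
  obtain ⟨m, F, φ, hF0, ⟨e⟩, -, hstep⟩ := Groth.Agent.S0026.result X M hM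
  -- all steps vanish on `U`
  have hz : ∀ n, ∀ j, j + n = m → IsZero ((F j).restrict U.ι) := by
    intro n
    induction n with
    | zero =>
      intro j hj
      obtain rfl : j = m := hj
      exact IsZero.of_iso h0 ((Scheme.Modules.restrictFunctor U.ι).mapIso e)
    | succ n ih =>
      intro j hj
      have h1 := ih (j + 1) (by omega)
      have := (hstep j (by omega)).1
      have h2 : Mono ((Scheme.Modules.restrictFunctor U.ι).map (φ j)) := inferInstance
      exact Limits.IsZero.of_mono_eq_zero ((Scheme.Modules.restrictFunctor U.ι).map (φ j)) (h1.eq_of_tgt _ _)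
  have key : ∀ j ≤ m, Subsingleton (Coh.HH X (F j) i) := by
    intro j
    induction j with
    | zero => exact fun _ => Groth.Agent.Fga.HShift.subsingleton_of_isZero hF0 i
    | succ j ih =>
      intro hj
      obtain ⟨hmono, Z', c, hc, hint, I, ι', hmono', hI, hI0, ⟨e'⟩⟩ := hstep j (by omega)
      have hS : (ShortComplex.mk (φ j) (cokernel.π (φ j)) (cokernel.condition _)).ShortExact :=
        { exact := ShortComplex.exact_cokernel (φ j)
          mono_f := hmono
          epi_g := inferInstance }
      refine Groth.Agent.Fga.HShift.subsingleton₂ hS i (ih (by omega)) ?_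
      change Subsingleton (Coh.HH X (cokernel (φ j)) i)
      refine Groth.Agent.Fga.HShift.subsingleton_of_iso e'.symm i ?_
      -- the quotient vanishes on `U`
      have h3 : IsZero ((cokernel (φ j)).restrict U.ι) := by
        have h4 := hz (m - (j + 1)) (j + 1) (by omega)
        have h5 : Epi ((Scheme.Modules.restrictFunctor U.ι).map (cokernel.π (φ j))) := inferInstance
        exact Limits.IsZero.of_epi_eq_zero ((Scheme.Modules.restrictFunctor U.ι).map (cokernel.π (φ j)))
          (h4.eq_of_src _ _)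
      have h6 : IsZero (((Coh.push c).obj I).restrict U.ι) :=
        IsZero.of_iso h3 ((Scheme.Modules.restrictFunctor U.ι).mapIso e'.symm)
      have h7 : Set.range c ⊆ Set.range ι := by
        have h8 := range_subset c ι' hI0 U h6
        rw [hU, compl_compl] at h8
        exact h8
      have h9 := ker_le_ker_of_isReduced ι c h7
      let l : Z' ⟶ Z := IsClosedImmersion.lift ι c h9
      have hl : l ≫ ι = c := IsClosedImmersion.lift_fac ι c h9
      have : IsClosedImmersion l := by
        have : IsClosedImmersion (l ≫ ι) := by rwa [hl]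
        exact IsClosedImmersion.of_comp l ι
      have := hI
      obtain ⟨e1⟩ := Groth.Agent.S0012.result c I i
      obtain ⟨e2⟩ := Groth.Agent.S0012.result l I i
      have h10 : Coh.IsQCoh ((Coh.push l).obj I) := Groth.Agent.Ega1.QcqsPush.isQCoh_pushforward l I hI
      have h11 := hcd _ h10 i hi
      exact (e1.symm.trans e2).toEquiv.subsingleton
  exact Groth.Agent.Fga.HShift.subsingleton_of_iso e i (key m le_rfl)

/-- A morphism of coherent modules which is an isomorphism outside `Z` is bijective on the cohomology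
in degrees greater than `cd Z + 1`. -/
theorem bijective_hmap [IsNoetherian X] {Z : Scheme.{u}} (ι : Z ⟶ X)
    [IsClosedImmersion ι] (k : ℕ)
    (hcd : ∀ G : Z.Modules, Coh.IsQCoh G → ∀ i : ℕ, k + 1 ≤ i → Subsingleton (Coh.HH Z G i))
    (U : X.Opens) (hU : (U : Set X) = (Set.range ι.base)ᶜ) {F G : X.Modules} (φ : F ⟶ G)
    (hF : Coh.IsCoh F) (hG : Coh.IsCoh G) [IsIso ((Scheme.Modules.restrictFunctor U.ι).map φ)]
    (i : ℕ) (hi : k + 2 ≤ i) : Function.Bijective (hmap φ i) := by
  obtain ⟨hK, hI, hC, hK0, hC0⟩ := Groth.Agent.Sga67.RoofLemma.ker_coker U.ι φ hF hG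
  have hvK := subsingleton_of_isZero_restrict ι k hcd U hU _ hK hK0
  have hvC := subsingleton_of_isZero_restrict ι k hcd U hU _ hC hC0
  obtain ⟨i, rfl⟩ : ∃ j, i = j + 1 := ⟨i - 1, by omega⟩
  have hS1 := Groth.Agent.Sga67.K0Loc.shortExact_kernel_image φ
  have hS2 := Groth.Agent.Sga67.K0Loc.shortExact_image_cokernel φ
  have hfac : Abelian.factorThruImage φ ≫ Abelian.image.ι φ = φ := Abelian.image.fac φ
  have hb1 : Function.Bijective (hmap (Abelian.factorThruImage φ) (i + 1)) := by
    constructor
    · rw [injective_iff_map_eq_zero]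
      intro x hx
      obtain ⟨y, hy⟩ := exact₂ hS1 (i + 1) x hx
      have := hvK (i + 1) (by omega)
      rw [← hy]
      have h0 : y = 0 := Subsingleton.elim _ _
      rw [h0, map_zero]
    · intro x
      have := hvK (i + 1 + 1) (by omega)
      exact exact₃ hS1 (i + 1) x (Subsingleton.elim _ _)
  have hb2 : Function.Bijective (hmap (Abelian.image.ι φ) (i + 1)) := by
    constructor
    · rw [injective_iff_map_eq_zero]
      intro x hx
      obtain ⟨y, hy⟩ := exact₁ hS2 i x hx
      have := hvC i (by omega)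
      rw [← hy]
      have h0 : y = 0 := Subsingleton.elim _ _
      rw [h0, map_zero]
    · intro x
      have := hvC (i + 1) (by omega)
      exact exact₂ hS2 (i + 1) x (Subsingleton.elim _ _)
  have h : (hmap φ (i + 1) : _ → _) = hmap (Abelian.image.ι φ) (i + 1) ∘ hmap (Abelian.factorThruImage φ) (i + 1) := by
    funext x
    rw [Function.comp_apply, ← hmap_comp_apply, hfac]
  rw [h]
  exact hb2.comp hb1

/-- Surjectivity in degree `cd Z + 1`. -/
theorem nonempty_equiv [IsNoetherian X] {Z : Scheme.{u}} (ι : Z ⟶ X)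
    [IsClosedImmersion ι] (k : ℕ)
    (hcd : ∀ G : Z.Modules, Coh.IsQCoh G → ∀ i : ℕ, k + 1 ≤ i → Subsingleton (Coh.HH Z G i))
    (U : X.Opens) (hU : (U : Set X) = (Set.range ι.base)ᶜ)
    (F F' : X.Modules) (hF : Coh.IsCoh F) (hF' : Coh.IsCoh F')
    (hiso : Nonempty (F.restrict U.ι ≅ F'.restrict U.ι)) (i : ℕ) (hi : k + 2 ≤ i) :
    Nonempty (Coh.HH X F i ≃+ Coh.HH X F' i) := by
  obtain ⟨e⟩ := hiso
  obtain ⟨I, a, b, hI, ha, hb, -⟩ := Groth.Agent.Sga67.RoofLemma.coroof U.ι hF hF' e
  have h1 := bijective_hmap ι k hcd U hU a hF hI i hi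
  have h2 := bijective_hmap ι k hcd U hU b hF' hI i hi
  exact ⟨(AddEquiv.ofBijective _ h1).trans (AddEquiv.ofBijective _ h2).symm⟩

end K782.FinExt
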