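import Groth.Agent.Dcoh.StalkRestrict
import Groth.Agent.Dcoh.FlatSES
import Groth.Agent.Dcoh.Spread
import Groth.Agent.Ega3B.FlatSec
import Groth.Agent.PerfA.QCohSerre
import Groth.Agent.PerfA.QCohEpi
import Groth.Agent.PerfB.AffHom
import Groth.Agent.S0011
import Groth.Agent.CohqB.QC7
import Groth.Agent.Ega2.GlobGenCrit
import Groth.Agent.Dcoh.FlatRes

/-!
# Flat quasi-coherent covers on schemes with affine diagonal
-/

set_option autoImplicit false
universe u
open CategoryTheory CategoryTheory.Limits AlgebraicGeometry Opposite TopologicalSpace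

namespace K782.FlatCover

variable {X : Scheme.{u}}

/-- A quasi-coherent module with flat sections over an affine open is flat at the points of this open. -/
theorem isFlatAt_of_flat_sections (N : X.Modules) (hN : Coh.IsQCoh N) {V : X.Opens}
    (hV : IsAffineOpen V) (h : Module.Flat Γ(X, V) Γ(N, V)) (x : X) (hx : x ∈ V) :
    FlatMod.IsFlatAt N x := by
  let m2 : Module Γ(X, V) (N.presheaf.stalk x) := Groth.Agent.Fdesc.QCohStalk.stalkModule N x hx
  have := Groth.Agent.Fdesc.QCohStalk.isLocalizedModule_germ N hV hN x hx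
  have h1 : Module.Flat Γ(X, V) (N.presheaf.stalk x) :=
    Groth.Agent.Ega3B.FlatSec.flat_of_isLocalizedModule (A := Γ(X, V))
      (hV.primeIdealOf ⟨x, hx⟩).asIdeal.primeCompl (Groth.Agent.Fdesc.QCohStalk.germₗ N x hx)
  let i1 : Algebra Γ(X, V) (X.presheaf.stalk x) := (X.presheaf.germ V x hx).hom.toAlgebra
  have := hV.isLocalization_stalk ⟨x, hx⟩
  have : IsScalarTower Γ(X, V) (X.presheaf.stalk x) (N.presheaf.stalk x) := ⟨fun a b m => by
    change (X.presheaf.germ V x hx a * b) • m = X.presheaf.germ V x hx a • b • m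
    rw [mul_smul]⟩
  exact (Module.flat_iff_of_isLocalization (X.presheaf.stalk x)
    (hV.primeIdealOf ⟨x, hx⟩).asIdeal.primeCompl _).mpr h1

/-- A quasi-coherent module which is flat at the points of an affine open has flat sections. -/
theorem flat_sections_of_isFlatAt (N : X.Modules) (hN : Coh.IsQCoh N) {V : X.Opens}
    (hV : IsAffineOpen V) (h : ∀ x ∈ V, FlatMod.IsFlatAt N x) : Module.Flat Γ(X, V) Γ(N, V) := by
  refine Module.flat_of_isLocalized_maximal (S := Γ(X, V)) Γ(N, V)
    (fun P _ => LocalizedModule P.primeCompl Γ(N, V))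
    (fun P _ => LocalizedModule.mkLinearMap P.primeCompl Γ(N, V)) ?_
  intro P hP
  obtain ⟨x, hx, hxP⟩ : ∃ (x : X) (hx : x ∈ V), (hV.primeIdealOf ⟨x, hx⟩).asIdeal = P := by
    obtain ⟨y, hy⟩ := (Scheme.homeoOfIso hV.isoSpec).surjective (⟨P, hP.isPrime⟩ : Spec Γ(X, V))
    exact ⟨y.1, y.2, congrArg PrimeSpectrum.asIdeal hy⟩
  subst hxP
  let m2 : Module Γ(X, V) (N.presheaf.stalk x) := Groth.Agent.Fdesc.QCohStalk.stalkModule N x hx
  have hl := Groth.Agent.Fdesc.QCohStalk.isLocalizedModule_germ N hV hN x hx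
  let i1 : Algebra Γ(X, V) (X.presheaf.stalk x) := (X.presheaf.germ V x hx).hom.toAlgebra
  have := hV.isLocalization_stalk ⟨x, hx⟩
  have : IsScalarTower Γ(X, V) (X.presheaf.stalk x) (N.presheaf.stalk x) := ⟨fun a b m => by
    change (X.presheaf.germ V x hx a * b) • m = X.presheaf.germ V x hx a • b • m
    rw [mul_smul]⟩
  have h1 : Module.Flat (X.presheaf.stalk x) (N.presheaf.stalk x) := h x hx
  have h2 : Module.Flat Γ(X, V) (N.presheaf.stalk x) :=
    (Module.flat_iff_of_isLocalization (X.presheaf.stalk x)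
      (hV.primeIdealOf ⟨x, hx⟩).asIdeal.primeCompl _).mp h1
  exact Module.Flat.of_linearEquiv (IsLocalizedModule.iso (hV.primeIdealOf ⟨x, hx⟩).asIdeal.primeCompl
    (Groth.Agent.Fdesc.QCohStalk.germₗ N x hx))

/-- Flatness at a point in the middle of a short exact sequence. -/
theorem isFlatAt_X₂ {S : ShortComplex X.Modules} (hS : S.ShortExact) (x : X)
    (h1 : FlatMod.IsFlatAt S.X₁ x) (h3 : FlatMod.IsFlatAt S.X₃ x) : FlatMod.IsFlatAt S.X₂ x := by
  have hx : (S.map (Groth.Agent.Dcoh.Stalk.stalkF x)).ShortExact := by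
    have := hS.mono_f
    have := hS.epi_g
    exact hS.map (Groth.Agent.Dcoh.Stalk.stalkF x)
  have h1' : Module.Flat (X.presheaf.stalk x) (S.map (Groth.Agent.Dcoh.Stalk.stalkF x)).X₁ := h1
  have h3' : Module.Flat (X.presheaf.stalk x) (S.map (Groth.Agent.Dcoh.Stalk.stalkF x)).X₃ := h3
  exact Groth.Agent.Ega3A.FlatSES.flat_middle (Groth.Agent.Dcoh.FlatSES.inj hx)
    (Groth.Agent.Dcoh.FlatSES.ex hx) (Groth.Agent.Dcoh.FlatSES.surj hx)

theorem isFlatAt_X₁ {S : ShortComplex X.Modules} (hS : S.ShortExact) (x : X)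
    (h2 : FlatMod.IsFlatAt S.X₂ x) (h3 : FlatMod.IsFlatAt S.X₃ x) : FlatMod.IsFlatAt S.X₁ x := by
  have hx : (S.map (Groth.Agent.Dcoh.Stalk.stalkF x)).ShortExact := by
    have := hS.mono_f
    have := hS.epi_g
    exact hS.map (Groth.Agent.Dcoh.Stalk.stalkF x)
  have h2' : Module.Flat (X.presheaf.stalk x) (S.map (Groth.Agent.Dcoh.Stalk.stalkF x)).X₂ := h2
  have h3' : Module.Flat (X.presheaf.stalk x) (S.map (Groth.Agent.Dcoh.Stalk.stalkF x)).X₃ := h3
  exact Groth.Agent.Ega3A.FlatSES.flat_left (Groth.Agent.Dcoh.FlatSES.inj hx)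
    (Groth.Agent.Dcoh.FlatSES.ex hx) (Groth.Agent.Dcoh.FlatSES.surj hx)

/-- The `Γ(X, V)`-module `Γ(Y, f ⁻¹ V; R)`. -/
@[reducible] noncomputable def pushModule {Y : Scheme.{u}} (f : Y ⟶ X) (R : Y.Modules) (V : X.Opens) :
    Module Γ(X, V) Γ(R, f ⁻¹ᵁ V) :=
  inferInstanceAs (Module Γ(X, V) Γ((Scheme.Modules.pushforward f).obj R, V))

/-- The direct image of a quasi-coherent module `R` along an affine open immersion (or any affine flat
morphism) is flat at the points of an affine open over which `R` is flat. -/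
theorem isFlatAt_pushforward {Y : Scheme.{u}} (f : Y ⟶ X) [IsAffineHom f] [Flat f] (R : Y.Modules)
    (hR : Coh.IsQCoh R) {V : X.Opens} (hV : IsAffineOpen V)
    (h : ∀ y ∈ f ⁻¹ᵁ V, FlatMod.IsFlatAt R y) (x : X) (hx : x ∈ V) :
    FlatMod.IsFlatAt ((Scheme.Modules.pushforward f).obj R) x := by
  refine isFlatAt_of_flat_sections _ (Groth.Agent.Ega1.QcqsPush.isQCoh_pushforward f R hR) hV ?_ x hx
  have h1 : Module.Flat Γ(Y, f ⁻¹ᵁ V) Γ(R, f ⁻¹ᵁ V) :=
    flat_sections_of_isFlatAt R hR (hV.preimage f) h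
  let i1 : Algebra Γ(X, V) Γ(Y, f ⁻¹ᵁ V) := (f.app V).hom.toAlgebra
  have h2 : Module.Flat Γ(X, V) Γ(Y, f ⁻¹ᵁ V) := by
    have h3 := Flat.flat_appLE f hV (hV.preimage f) le_rfl
    rw [Scheme.Hom.appLE_eq_app] at h3
    exact h3
  let i2 : Module Γ(X, V) Γ(R, f ⁻¹ᵁ V) := pushModule f R V
  have : IsScalarTower Γ(X, V) Γ(Y, f ⁻¹ᵁ V) Γ(R, f ⁻¹ᵁ V) := ⟨fun a b m => by
    change (f.app V a * b) • m = f.app V a • b • m
    rw [mul_smul]⟩
  exact Module.Flat.trans Γ(X, V) Γ(Y, f ⁻¹ᵁ V) Γ(R, f ⁻¹ᵁ V)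

/-- Direct image along an affine morphism of an epimorphism of quasi-coherent modules. -/
theorem epi_pushforward {Y : Scheme.{u}} (f : Y ⟶ X) [IsAffineHom f] {M N : Y.Modules}
    (hM : Coh.IsQCoh M) (hN : Coh.IsQCoh N) (φ : M ⟶ N) [Epi φ] :
    Epi ((Scheme.Modules.pushforward f).map φ) :=
  Groth.Agent.PerfB.AffHom.epi_of_affine fun _ hV n =>
    Groth.Agent.PerfA.QCohEpi.app_surjective_of_epi φ (hV.preimage f) n

/-- The kernel of the first projection of a fibre product. -/
noncomputable def kernelFstIso {C : Type*} [Category* C] [Abelian C] {A B D : C} (f : A ⟶ D) (g : B ⟶ D) :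
    kernel (pullback.fst f g) ≅ kernel g where
  hom := kernel.lift g (kernel.ι _ ≫ pullback.snd f g)
    (by rw [Category.assoc, ← pullback.condition, ← Category.assoc, kernel.condition, zero_comp])
  inv := kernel.lift _ (pullback.lift 0 (kernel.ι g) (by simp)) (by rw [pullback.lift_fst])
  hom_inv_id := by
    refine equalizer.hom_ext ?_
    refine pullback.hom_ext ?_ ?_
    · have h1 : kernel.ι (pullback.fst f g) ≫ pullback.fst f g = 0 := kernel.condition _
      exact (Category.assoc _ _ _).trans ((congrArg (fun t => _ ≫ t) h1).trans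
        (comp_zero.trans (comp_zero.symm.trans
          ((congrArg (fun t => _ ≫ t) h1).symm.trans (Category.assoc _ _ _).symm))))
    · change ((kernel.lift g _ _ ≫ kernel.lift _ _ _) ≫ kernel.ι _) ≫ _ = (𝟙 _ ≫ kernel.ι _) ≫ _
      rw [Category.assoc, Category.assoc, kernel.lift_ι_assoc, pullback.lift_snd, kernel.lift_ι,
        Category.id_comp]
  inv_hom_id := by
    refine equalizer.hom_ext ?_
    change (kernel.lift _ _ _ ≫ kernel.lift g _ _) ≫ kernel.ι _ = 𝟙 _ ≫ kernel.ι _
    rw [Category.assoc, kernel.lift_ι, kernel.lift_ι_assoc, pullback.lift_snd, Category.id_comp]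

/-- The structure sheaf is flat. -/
theorem isFlat_structureModule (X : Scheme.{u}) : FlatMod.IsFlat (Coh.structureModule X) := by
  intro x
  obtain ⟨W, hW, hxW, -⟩ := Groth.Agent.PerfB.AffHom.exists_affine_le (X := X) ⊤ (x := x) trivial
  exact isFlatAt_of_flat_sections _ (Groth.Agent.PerfA.QCohSerre.isQCoh_unit X) hW
    (inferInstanceAs (Module.Flat Γ(X, W) Γ(X, W))) x hxW

/-- A quasi-coherent module on an affine scheme is a quotient of a free module. -/
theorem exists_free_cover {Y : Scheme.{u}} [IsAffine Y] (K : Y.Modules) (hK : Coh.IsQCoh K) :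
    ∃ (G : Y.Modules) (q : G ⟶ K), Coh.IsQCoh G ∧ FlatMod.IsFlat G ∧ Epi q := by
  obtain ⟨κ, p, hp⟩ := Groth.Agent.Ega2.GlobGenCrit.isGloballyGenerated_of_span hK
    (fun _ : Unit => (⊤ : Y.Opens)) (fun _ => isAffineOpen_top Y) (by simp) (fun _ => by
      rw [eq_top_iff]
      intro m _
      refine Submodule.subset_span ⟨m, ?_⟩
      change (K.presheaf.map (𝟙 (op (⊤ : Y.Opens)))) m = m
      rw [CategoryTheory.Functor.map_id]
      rfl)
  exact ⟨∐ fun _ : κ => Coh.structureModule Y, p,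
    Groth.Agent.CohqB.QC7.isQCoh_coproduct _ fun _ => Groth.Agent.PerfA.QCohSerre.isQCoh_unit Y,
    Groth.Agent.Dcoh.FlatRes.isFlat_sigma _ fun _ => isFlat_structureModule Y, hp⟩

theorem isIso_restrict_map_unit (U : X.Opens) (K : X.Modules) :
    IsIso ((Scheme.Modules.restrictFunctor U.ι).map
      ((Scheme.Modules.restrictAdjunction U.ι).unit.app K)) := by
  have h := (Scheme.Modules.restrictAdjunction U.ι).left_triangle_components K
  have h2 : IsIso ((Scheme.Modules.restrictFunctor U.ι).map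
      ((Scheme.Modules.restrictAdjunction U.ι).unit.app K) ≫
        (Scheme.Modules.restrictAdjunction U.ι).counit.app ((Scheme.Modules.restrictFunctor U.ι).obj K)) := by
    rw [h]
    infer_instance
  exact IsIso.of_isIso_comp_right _
    ((Scheme.Modules.restrictAdjunction U.ι).counit.app ((Scheme.Modules.restrictFunctor U.ι).obj K))

/-- One step: make a quasi-coherent cover flat over one more affine open. -/
theorem exists_step (U : X.Opens) (hU : IsAffineOpen U) [IsAffineHom U.ι] (V : X.Opens) (K : X.Modules)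
    (hK : Coh.IsQCoh K) (hV : ∀ x ∈ V, FlatMod.IsFlatAt K x) :
    ∃ (L : X.Modules) (π : L ⟶ K), Coh.IsQCoh L ∧ Epi π ∧ ∀ x ∈ V ⊔ U, FlatMod.IsFlatAt L x := by
  have hKU : Coh.IsQCoh (K.restrict U.ι) := Groth.Agent.Ega1.QCohLoc.isQCoh_restrict K U.ι
  have : IsAffine U := hU
  -- a free cover on `U`
  obtain ⟨G, q, hG, hGf, hq⟩ := exists_free_cover (K.restrict U.ι) hKU
  let a : (Scheme.Modules.pushforward U.ι).obj G ⟶ (Scheme.Modules.pushforward U.ι).obj (K.restrict U.ι) :=
    (Scheme.Modules.pushforward U.ι).map q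
  let b : K ⟶ (Scheme.Modules.pushforward U.ι).obj (K.restrict U.ι) :=
    (Scheme.Modules.restrictAdjunction U.ι).unit.app K
  have ha : Epi a := epi_pushforward U.ι hG hKU q
  have hqG : Coh.IsQCoh ((Scheme.Modules.pushforward U.ι).obj G) :=
    Groth.Agent.Ega1.QcqsPush.isQCoh_pushforward U.ι G hG
  have hqK : Coh.IsQCoh ((Scheme.Modules.pushforward U.ι).obj (K.restrict U.ι)) :=
    Groth.Agent.Ega1.QcqsPush.isQCoh_pushforward U.ι _ hKU
  have hR : Coh.IsQCoh (kernel q) := Groth.Agent.PerfA.QCohSerre.isQCoh_kernel q hG hKU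
  have hS : (ShortComplex.mk (kernel.ι (pullback.fst b a)) (pullback.fst b a)
    (kernel.condition _)).ShortExact := { exact := ShortComplex.exact_kernel _ }
  have e : kernel (pullback.fst b a) ≅ (Scheme.Modules.pushforward U.ι).obj (kernel q) :=
    kernelFstIso b a ≪≫ (PreservesKernel.iso (Scheme.Modules.pushforward U.ι) q).symm
  have hpR : Coh.IsQCoh ((Scheme.Modules.pushforward U.ι).obj (kernel q)) :=
    Groth.Agent.Ega1.QcqsPush.isQCoh_pushforward U.ι _ hR
  refine ⟨pullback b a, pullback.fst b a, ?_, inferInstance, ?_⟩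
  · exact Groth.Agent.CohqB.QC6.isQCoh_of_shortExact₂ hS (Groth.Agent.PerfA.QCohSerre.isQCoh_of_iso e.symm hpR) hK
  · intro x hx
    by_cases hxU : x ∈ U
    · -- over `U` the module `L` is `G`
      have h1 := isIso_restrict_map_unit U K
      have hpb := (IsPullback.of_hasPullback b a).map (Scheme.Modules.restrictFunctor U.ι)
      have h2 : IsIso ((Scheme.Modules.restrictFunctor U.ι).map (pullback.snd b a)) :=
        hpb.isIso_snd_of_isIso
      let e2 : (pullback b a).restrict U.ι ≅ G :=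
        asIso ((Scheme.Modules.restrictFunctor U.ι).map (pullback.snd b a)) ≪≫
          (asIso ((Scheme.Modules.restrictAdjunction U.ι).counit.app G))
      exact (Groth.Agent.Dcoh.StalkRestrict.isFlatAt_restrict_iff U.ι _ ⟨x, hxU⟩).1
        (Groth.Agent.Dcoh.Spread.isFlatAt_of_iso e2.symm _ (hGf _))
    · have hxV : x ∈ V := by
        rcases hx with hx | hx
        · exact hx
        · exact absurd hx hxU
      obtain ⟨W, hW, hxW, hWV⟩ := Groth.Agent.PerfB.AffHom.exists_affine_le V hxV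
      refine isFlatAt_X₂ hS x ?_ (hV x hxV)
      refine Groth.Agent.Dcoh.Spread.isFlatAt_of_iso e.symm x ?_
      refine isFlatAt_pushforward U.ι (kernel q) hR hW (fun y hy => ?_) x hxW
      have hS' : (ShortComplex.mk (kernel.ι q) q (kernel.condition _)).ShortExact :=
        { exact := ShortComplex.exact_kernel _ }
      refine isFlatAt_X₁ hS' y (hGf y) ?_
      exact (Groth.Agent.Dcoh.StalkRestrict.isFlatAt_restrict_iff U.ι K y).2 (hV _ (hWV hy))

/-- Finite induction over the affine opens. -/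
theorem exists_flat_on {n : ℕ} (U : Fin n → X.Opens) (hU : ∀ i, IsAffineOpen (U i))
    (haff : ∀ i, IsAffineHom (U i).ι) (M : X.Modules) (hM : Coh.IsQCoh M) (s : Finset (Fin n)) :
    ∃ (L : X.Modules) (π : L ⟶ M), Coh.IsQCoh L ∧ Epi π ∧
      ∀ i ∈ s, ∀ x ∈ U i, FlatMod.IsFlatAt L x := by
  induction s using Finset.induction_on with
  | empty => exact ⟨M, 𝟙 M, hM, inferInstance, fun i hi => absurd hi (Finset.notMem_empty i)⟩
  | insert i s _ ih =>
    obtain ⟨K, p, hK, hp, hKs⟩ := ih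
    have := haff i
    obtain ⟨L, π, hL, hπ, hf⟩ := exists_step (U i) (hU i) (⨆ j ∈ s, U j) K hK (fun x hx => by
      simp only [Opens.mem_iSup] at hx
      obtain ⟨j, hj, hx⟩ := hx
      exact hKs j hj x hx)
    refine ⟨L, π ≫ p, hL, epi_comp π p, fun j hj x hx => hf x ?_⟩
    rcases Finset.mem_insert.mp hj with rfl | hj
    · exact Or.inr hx
    · refine Or.inl ?_
      change x ∈ (⨆ j ∈ s, U j)
      simp only [Opens.mem_iSup]
      exact ⟨j, hj, hx⟩

/-- On a quasi-compact scheme with affine diagonal every quasi-coherent module is a quotient of a flat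
quasi-coherent module. -/
theorem exists_flat_cover [CompactSpace X]
    (hd : ∀ V W : X.Opens, IsAffineOpen V → IsAffineOpen W → IsAffineOpen (V ⊓ W))
    (M : X.Modules) (hM : Coh.IsQCoh M) :
    ∃ (F : X.Modules) (π : F ⟶ M), Coh.IsQCoh F ∧ FlatMod.IsFlat F ∧ Epi π := by
  obtain ⟨n, U, hU, hcov⟩ := Groth.Agent.S0011.exists_finite_affine_cover X
  have haff : ∀ j, IsAffineHom (U j).ι := fun j => Groth.Agent.S0011.isAffineHom_ι X hd (U j) (hU j)
  obtain ⟨L, π, hL, hπ, hf⟩ := exists_flat_on U hU haff M hM Finset.univ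
  refine ⟨L, π, hL, fun x => ?_, hπ⟩
  have hx : x ∈ (⨆ j, U j) := by rw [hcov]; trivial
  obtain ⟨j, hj⟩ := Opens.mem_iSup.mp hx
  exact hf j (Finset.mem_univ j) x hj

end K782.FlatCover
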