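import Groth.Agent.VarietyA.Glue2
import Groth.Agent.Divis.GenIso
import Groth.Agent.Fdesc.LocGenAmple
import Groth.Agent.Fdesc.LocGenGlue
import Groth.Agent.Fdesc.LocGenPullback

/-!
# Descending invertible modules along morphisms which are isomorphisms on the overlaps of an open cover
-/

set_option autoImplicit false
universe u
open CategoryTheory CategoryTheory.Limits AlgebraicGeometry Opposite TopologicalSpace
open Groth.Agent.Fdesc Groth.Agent.Fdesc.LocGen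

namespace K782.GlueInv

variable {Y V : Scheme.{u}}

theorem app_ores (f : Y ⟶ V) {U W : V.Opens} (h : W ≤ U) (a : Γ(V, U)) :
    f.app W (ores h a) = ores (f.preimage_mono h) (f.app U a) := by
  have := f.naturality (homOfLE h).op
  exact congr($(this).hom a)

/-- Local generators over the preimages of an open cover such that the morphism is bijective on functions
below the overlaps. -/
structure Desc (f : Y ⟶ V) (M : Y.Modules) (ι : Type u) where
  U : ι → V.Opens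
  cover : ⨆ i, U i = ⊤
  e : ∀ i, Γ(M, f ⁻¹ᵁ U i)
  gen : ∀ i, IsGen (e i)
  bij : ∀ i j, i ≠ j → ∀ W : V.Opens, W ≤ U i ⊓ U j → Function.Bijective (f.app W)

variable {f : Y ⟶ V} {M : Y.Modules} {ι : Type u} (D : Desc f M ι)

theorem exists_trans : ∃ g : ∀ i j, Γ(V, D.U i ⊓ D.U j), (∀ i, g i i = 1) ∧
    ∀ i j, res M (f.preimage_mono (inf_le_left : D.U i ⊓ D.U j ≤ D.U i)) (D.e i) =
      (f.app (D.U i ⊓ D.U j) (g i j) : Γ(Y, f ⁻¹ᵁ (D.U i ⊓ D.U j))) •
        res M (f.preimage_mono (inf_le_right : D.U i ⊓ D.U j ≤ D.U j)) (D.e j) := by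
  classical
  have h : ∀ i j, ∃ g : Γ(V, D.U i ⊓ D.U j), (i = j → g = 1) ∧
      res M (f.preimage_mono (inf_le_left : D.U i ⊓ D.U j ≤ D.U i)) (D.e i) =
      (f.app (D.U i ⊓ D.U j) g : Γ(Y, f ⁻¹ᵁ (D.U i ⊓ D.U j))) •
        res M (f.preimage_mono (inf_le_right : D.U i ⊓ D.U j ≤ D.U j)) (D.e j) := by
    intro i j
    by_cases hij : i = j
    · subst hij
      exact ⟨1, fun _ => rfl, by rw [map_one, one_smul]⟩
    · obtain ⟨a, ha⟩ := ((D.gen j).res (f.preimage_mono (inf_le_right : D.U i ⊓ D.U j ≤ D.U j))).exists_eq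
        (res M (f.preimage_mono (inf_le_left : D.U i ⊓ D.U j ≤ D.U i)) (D.e i))
      obtain ⟨g, rfl⟩ := (D.bij i j hij _ le_rfl).2 a
      exact ⟨g, fun h => absurd h hij, ha⟩
  choose g h1 h2 using h
  exact ⟨g, fun i => h1 i i rfl, h2⟩

/-- The descended invertible module with its generators and transition functions. -/
theorem exists_descended : ∃ (L : V.Modules) (ε : ∀ i, Γ(L, D.U i)) (g : ∀ i j, Γ(V, D.U i ⊓ D.U j)),
    PicF.IsInvertible L ∧ (∀ i, IsGen (ε i)) ∧ (∀ i, g i i = 1) ∧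
    (∀ i j, res L (inf_le_left : D.U i ⊓ D.U j ≤ D.U i) (ε i) =
      g i j • res L (inf_le_right : D.U i ⊓ D.U j ≤ D.U j) (ε j)) ∧
    ∀ i j, res M (f.preimage_mono (inf_le_left : D.U i ⊓ D.U j ≤ D.U i)) (D.e i) =
      (f.app (D.U i ⊓ D.U j) (g i j) : Γ(Y, f ⁻¹ᵁ (D.U i ⊓ D.U j))) •
        res M (f.preimage_mono (inf_le_right : D.U i ⊓ D.U j ≤ D.U j)) (D.e j) := by
  obtain ⟨g, h1, hg⟩ := exists_trans D
  have hc : ∀ i j l, ores (show D.U i ⊓ (D.U j ⊓ D.U l) ≤ D.U i ⊓ D.U j from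
      inf_le_inf_left _ inf_le_left) (g i j) *
      ores (show D.U i ⊓ (D.U j ⊓ D.U l) ≤ D.U j ⊓ D.U l from inf_le_right) (g j l) =
        ores (show D.U i ⊓ (D.U j ⊓ D.U l) ≤ D.U i ⊓ D.U l from inf_le_inf_left _ inf_le_right)
          (g i l) := by
    intro i j l
    by_cases hij : i = j
    · subst hij
      rw [h1, map_one, one_mul]
    apply (D.bij i j hij _ (inf_le_inf_left _ inf_le_left : D.U i ⊓ (D.U j ⊓ D.U l) ≤ D.U i ⊓ D.U j)).1
    apply ((D.gen l).res (f.preimage_mono (inf_le_right.trans inf_le_right :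
      D.U i ⊓ (D.U j ⊓ D.U l) ≤ D.U l))).ext
    have e1 := congrArg (res M (f.preimage_mono (inf_le_inf_left _ inf_le_left :
      D.U i ⊓ (D.U j ⊓ D.U l) ≤ D.U i ⊓ D.U j))) (hg i j)
    have e2 := congrArg (res M (f.preimage_mono (inf_le_right :
      D.U i ⊓ (D.U j ⊓ D.U l) ≤ D.U j ⊓ D.U l))) (hg j l)
    have e3 := congrArg (res M (f.preimage_mono (inf_le_inf_left _ inf_le_right :
      D.U i ⊓ (D.U j ⊓ D.U l) ≤ D.U i ⊓ D.U l))) (hg i l)
    rw [res_smul, res_res, res_res] at e1 e2 e3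
    rw [map_mul, app_ores, app_ores, app_ores, mul_smul, ← e2, ← e3, ← e1]
  obtain ⟨L, ε, hL, hε, hgl⟩ := Groth.Agent.VarietyA.Glue2.exists_glued D.U D.cover g h1 hc
  exact ⟨L, ε, g, hL, hε, h1, hgl, hg⟩

/-- The pullback of the descended module. -/
theorem nonempty_pullback_iso {L : V.Modules} {ε : ∀ i, Γ(L, D.U i)} {g : ∀ i j, Γ(V, D.U i ⊓ D.U j)}
    (hε : ∀ i, IsGen (ε i))
    (h1 : ∀ i j, res L (inf_le_left : D.U i ⊓ D.U j ≤ D.U i) (ε i) =
      g i j • res L (inf_le_right : D.U i ⊓ D.U j ≤ D.U j) (ε j))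
    (h2 : ∀ i j, res M (f.preimage_mono (inf_le_left : D.U i ⊓ D.U j ≤ D.U i)) (D.e i) =
      (f.app (D.U i ⊓ D.U j) (g i j) : Γ(Y, f ⁻¹ᵁ (D.U i ⊓ D.U j))) •
        res M (f.preimage_mono (inf_le_right : D.U i ⊓ D.U j ≤ D.U j)) (D.e j)) :
    Nonempty ((Scheme.Modules.pullback f).obj L ≅ M) := by
  refine Groth.Agent.Divis.GenIso.nonempty_iso_of_gens (W := fun i => f ⁻¹ᵁ D.U i)
    (s := fun i => pullSec f (ε i)) (t := D.e) ?_ (fun i => IsGen.pullSec f (hε i)) D.gen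
    (fun i j => f.app (D.U i ⊓ D.U j) (g i j)) (fun i j => ?_) h2
  · rw [← Scheme.Hom.preimage_iSup, D.cover]
    rfl
  · have e1 := res_pullSec f (inf_le_left : D.U i ⊓ D.U j ≤ D.U i) (ε i)
    have e2 := res_pullSec f (inf_le_right : D.U i ⊓ D.U j ≤ D.U j) (ε j)
    rw [h1, pullSec_smul, ← e2] at e1
    exact e1

/-- Sections of the powers of the descended module. -/
theorem exists_section {L : V.Modules} {ε : ∀ i, Γ(L, D.U i)} {g : ∀ i j, Γ(V, D.U i ⊓ D.U j)}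
    (h0 : ∀ i, g i i = 1)
    (h1 : ∀ i j, res L (inf_le_left : D.U i ⊓ D.U j ≤ D.U i) (ε i) =
      g i j • res L (inf_le_right : D.U i ⊓ D.U j ≤ D.U j) (ε j)) (k : ℕ) (c : ∀ i, Γ(V, D.U i))
    (hc : ∀ i j, ores (f.preimage_mono (inf_le_left : D.U i ⊓ D.U j ≤ D.U i)) (f.app _ (c i)) *
      (f.app (D.U i ⊓ D.U j) (g i j)) ^ k =
        ores (f.preimage_mono (inf_le_right : D.U i ⊓ D.U j ≤ D.U j)) (f.app _ (c j))) :
    ∃ s : Coh.structureModule V ⟶ CohB1.tensorPow L k, ∀ i, sec s (D.U i) = c i • LocGen.pow (ε i) k := by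
  refine exists_hom_of_family D.U D.cover _ fun i j => ?_
  rw [res_smul, res_smul, LocGen.res_pow, LocGen.res_pow, h1, smul_pow, smul_smul]
  congr 1
  by_cases hij : i = j
  · subst hij
    rw [h0, one_pow, mul_one]
  · apply (D.bij i j hij _ le_rfl).1
    rw [map_mul, map_pow, app_ores, app_ores]
    exact hc i j

/-- Families of functions attached to a section upstairs. -/
theorem exists_family {g : ∀ i j, Γ(V, D.U i ⊓ D.U j)}
    (h2 : ∀ i j, res M (f.preimage_mono (inf_le_left : D.U i ⊓ D.U j ≤ D.U i)) (D.e i) =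
      (f.app (D.U i ⊓ D.U j) (g i j) : Γ(Y, f ⁻¹ᵁ (D.U i ⊓ D.U j))) •
        res M (f.preimage_mono (inf_le_right : D.U i ⊓ D.U j ≤ D.U j)) (D.e j)) (k : ℕ)
    (s : Coh.structureModule Y ⟶ CohB1.tensorPow M k) :
    ∃ c : ∀ i, Γ(Y, f ⁻¹ᵁ D.U i), (∀ i, sec s (f ⁻¹ᵁ D.U i) = c i • LocGen.pow (D.e i) k) ∧
      ∀ i j, ores (f.preimage_mono (inf_le_left : D.U i ⊓ D.U j ≤ D.U i)) (c i) *
        (f.app (D.U i ⊓ D.U j) (g i j)) ^ k =
          ores (f.preimage_mono (inf_le_right : D.U i ⊓ D.U j ≤ D.U j)) (c j) := by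
  choose c hc using fun i => ((D.gen i).pow k).exists_eq (sec s (f ⁻¹ᵁ D.U i))
  refine ⟨c, hc, fun i j => ?_⟩
  apply (((D.gen j).pow k).res (f.preimage_mono (inf_le_right : D.U i ⊓ D.U j ≤ D.U j))).ext
  have e1 := congr(res (CohB1.tensorPow M k) (f.preimage_mono (inf_le_left : D.U i ⊓ D.U j ≤ D.U i)) $(hc i))
  have e2 := congr(res (CohB1.tensorPow M k) (f.preimage_mono (inf_le_right : D.U i ⊓ D.U j ≤ D.U j)) $(hc j))
  rw [res_sec, res_smul] at e1 e2
  rw [← e2, e1, LocGen.res_pow, LocGen.res_pow, h2, smul_pow, smul_smul]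

end K782.GlueInv
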