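import Groth.Agent.ResProp.K782.NegPow
import Groth.Agent.ResProp.K782.ProjAffine
import Groth.Agent.Sga67.CohLoc
import Groth.Agent.Grpsch.PicGrp
import Groth.Agent.Ega3B.TensRestrict
import Groth.Agent.PerfA.CohSerre
import Groth.Agent.Ega2.QCohLocal

/-!
# Coherent extensions of the inverse of an invertible module on an open
-/

set_option autoImplicit false
universe u
open CategoryTheory CategoryTheory.Limits AlgebraicGeometry Opposite TopologicalSpace
open Groth.Agent.Fdesc.LocGen Groth.Agent.Ega2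

namespace K782.NegExt

open K782.NegPow Groth.Agent.Dual.H367.IdMul

theorem isInvertible_of_iso {X : Scheme.{u}} {L L' : X.Modules} (e : L ≅ L') (h : PicF.IsInvertible L) :
    PicF.IsInvertible L' := fun x => by
  obtain ⟨U, hx, ⟨e'⟩⟩ := h x
  exact ⟨U, hx, ⟨(Scheme.Modules.restrictFunctor U.ι).mapIso e.symm ≪≫ e'⟩⟩

noncomputable def powUnit (X : Scheme.{u}) :
    (n : ℕ) → (CohB1.tensorPow (Coh.structureModule X) n ≅ Coh.structureModule X)
  | 0 => Iso.refl _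
  | n + 1 => Tens.mapTIso (powUnit X n) (Iso.refl _) ≪≫ Tens.lunit _

section Pairing

variable {V : Scheme.{u}} {A B : V.Modules} (s : Coh.structureModule V ⟶ B)
  (e : CohB1.tensorMod A B ≅ Coh.structureModule V)

/-- The form given by a section of `B` and an isomorphism `A ⊗ B ≅ O`. -/
noncomputable def pairing : A ⟶ Coh.structureModule V :=
  (Tens.runit A).inv ≫ Tens.mapT (𝟙 A) s ≫ e.hom

theorem pairing_app {W : V.Opens} (a : Γ(A, W)) :
    (pairing s e).app W a = e.hom.app W (tmul a (sec s W)) := by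
  have h1 : (Tens.runit A).inv.app W a = tmul a (one W) := by
    have h2 : (Tens.runit A).inv.app W ((Tens.runit A).hom.app W (tmul a (one W))) = tmul a (one W) :=
      TensPow.symm_app_app _ _
    rwa [TensPow.runit_tmul] at h2
  change e.hom.app W ((Tens.mapT (𝟙 A) s).app W ((Tens.runit A).inv.app W a)) = _
  rw [h1, TensPow.mapT_tmul]
  rfl

theorem basicOpen_pairing_le (hB : PicF.IsInvertible B) {W : V.Opens} (a : Γ(A, W)) :
    V.basicOpen (ofFun.symm ((pairing s e).app W a)) ≤ CohB1.genLocus B s := by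
  intro x hx
  let f : Γ(V, W) := ofFun.symm ((pairing s e).app W a)
  change x ∈ V.basicOpen f at hx
  obtain ⟨O, b₀, hxO, hb₀⟩ := (isInvertible_iff B).1 hB x
  let W' : V.Opens := O ⊓ V.basicOpen f
  have hW'O : W' ≤ O := inf_le_left
  have hW' : W' ≤ W := inf_le_right.trans (V.basicOpen_le f)
  have hb : IsGen (res B hW'O b₀) := hb₀.res _
  obtain ⟨g, hg⟩ := hb.exists_eq (sec s W')
  have h1 : ores hW' f = g * ofFun.symm (e.hom.app W' (tmul (res A hW' a) (res B hW'O b₀))) := by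
    apply ofFun.injective
    have h2 : ofFun (ores hW' f) = res (Coh.structureModule V) hW' ((pairing s e).app W a) := rfl
    rw [h2, ← app_res, pairing_app, hg, tmul_smul, Scheme.Modules.Hom.app_smul]
    rfl
  have h3 : IsUnit (ores hW' f) := by
    have h4 : IsUnit (ores (V.basicOpen_le f) f) := RingedSpace.isUnit_res_basicOpen V.toRingedSpace f
    have h5 : ores hW' f = ores (inf_le_right : W' ≤ V.basicOpen f) (ores (V.basicOpen_le f) f) := by
      rw [ores_ores]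
    rw [h5]
    exact h4.map _
  rw [h1] at h3
  have h6 : IsUnit g := isUnit_of_mul_isUnit_left h3
  rw [mem_genLocus_iff]
  refine ⟨W', ⟨hxO, hx⟩, ?_⟩
  rw [hg]
  exact hb.unit_smul h6

theorem exists_pairing_eq_one (hA : Coh.IsQCoh A) (hB : Coh.IsQCoh B)
    (hD : IsAffineOpen (CohB1.genLocus B s)) :
    ∃ a : Γ(A, CohB1.genLocus B s), (pairing s e).app _ a = one _ := by
  have hb : IsGen (sec s (CohB1.genLocus B s)) := isGen_sec_genLocus s
  have key : ∀ y : Γ(CohB1.tensorMod A B, CohB1.genLocus B s), ∃ a, tmul a (sec s (CohB1.genLocus B s)) = y := by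
    intro y
    refine tmul_induction hA hB hD (P := fun y => ∃ a, tmul a (sec s (CohB1.genLocus B s)) = y)
      (fun a b => ?_) (fun x y hx hy => ?_) y
    · obtain ⟨c, hc⟩ := hb.exists_eq b
      exact ⟨c • a, by rw [smul_tmul, ← tmul_smul, ← hc]⟩
    · obtain ⟨a, rfl⟩ := hx
      obtain ⟨a', rfl⟩ := hy
      exact ⟨a + a', add_tmul _ _ _⟩
  obtain ⟨a, ha⟩ := key (e.inv.app _ (one _))
  refine ⟨a, ?_⟩
  rw [pairing_app, ha]
  exact TensPow.app_symm_app _ _

end Pairing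

variable {X : Scheme.{u}}

theorem restrictUnit_inv_ofFun {U : Scheme.{u}} (j : U ⟶ X) [IsOpenImmersion j] (W : U.Opens) (a : Γ(U, W)) :
    (toRestrict j).symm ((Groth.Agent.Dcoh.Restrict.restrictUnit j).inv.app W (ofFun a)) =
      (ofFun ((j.appIso W).inv a) : Γ(Coh.structureModule X, j ''ᵁ W)) := rfl

/-- `I^(n+1) G ⟶ I^n G` is divisible by `I`. -/
theorem tr_mem {I : X.IdealSheafData} {G : X.Modules} (hG : Coh.IsQCoh G) (n : ℕ) (h : I ^ (n + 1) ≤ I ^ n)
    (W : X.affineOpens) (t : Γ((Dual3.idealMul (I ^ (n + 1))).obj G, W.1)) :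
    (tr h G).app W.1 t ∈ I.ideal W • (⊤ : Submodule Γ(X, W.1) Γ((Dual3.idealMul (I ^ n)).obj G, W.1)) := by
  have h1 : ∀ y ∈ I.ideal W • ((I ^ n).ideal W • (⊤ : Submodule Γ(X, W.1) Γ(G, W.1))),
      ∃ t ∈ I.ideal W • (⊤ : Submodule Γ(X, W.1) Γ((Dual3.idealMul (I ^ n)).obj G, W.1)),
        (Dual3.idealMulι (I ^ n) G).app W.1 t = y := by
    intro y hy
    refine Submodule.smul_induction_on hy (fun a ha m hm => ?_) (fun y y' h1 h2 => ?_)
    · obtain ⟨t, rfl⟩ := exists_app_eq (I ^ n) W m hm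
      exact ⟨a • t, Submodule.smul_mem_smul ha trivial, Scheme.Modules.Hom.app_smul _ _ _⟩
    · obtain ⟨z, hz, rfl⟩ := h1
      obtain ⟨z', hz', rfl⟩ := h2
      exact ⟨z + z', add_mem hz hz', map_add _ _ _⟩
  have h2 : (Dual3.idealMulι (I ^ (n + 1)) G).app W.1 t ∈
      I.ideal W • ((I ^ n).ideal W • (⊤ : Submodule Γ(X, W.1) Γ(G, W.1))) := by
    have h3 := app_mem (I ^ (n + 1)) hG W t
    have h4 : (I ^ (n + 1)).ideal W = I.ideal W * (I ^ n).ideal W := by
      simp only [Scheme.IdealSheafData.ideal_pow, Pi.pow_apply]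
      rw [pow_succ']
    rw [h4, Submodule.mul_smul] at h3
    exact h3
  obtain ⟨t', ht', hts⟩ := h1 _ h2
  have h5 : (tr h G).app W.1 t = t' := by
    apply Groth.Agent.FormalB.KQuot.injective_app_of_mono (Dual3.idealMulι (I ^ n) G) W.1
    rw [hts]
    exact congr(($(tr_ι h G)).app W.1 t)
  rw [h5]
  exact ht'

theorem app_mem_smul {M N : X.Modules} (ψ : M ⟶ N) {W : X.Opens} (J : Ideal Γ(X, W)) (t : Γ(M, W))
    (ht : t ∈ J • (⊤ : Submodule Γ(X, W) Γ(M, W))) : ψ.app W t ∈ J • (⊤ : Submodule Γ(X, W) Γ(N, W)) := by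
  refine Submodule.smul_induction_on ht (fun r hr m _ => ?_) (fun x y hx hy => ?_)
  · rw [Scheme.Modules.Hom.app_smul]
    exact Submodule.smul_mem_smul hr trivial
  · rw [map_add]
    exact add_mem hx hy

/-- `I^n M ⟶ M` is bijective over the affine opens contained in `V`. -/
theorem bijective_idealMulι (V : X.Opens) (n : ℕ) (M : X.Modules) (W : X.Opens) (hW : IsAffineOpen W)
    (hWV : W ≤ V) : Function.Bijective ((Dual3.idealMulι ((compIdeal V) ^ n) M).app W) := by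
  refine ⟨Groth.Agent.FormalB.KQuot.injective_app_of_mono _ W, fun m => ?_⟩
  refine exists_app_eq ((compIdeal V) ^ n) ⟨W, hW⟩ m ?_
  have h1 : (1 : Γ(X, W)) ∈ (compIdeal V).ideal ⟨W, hW⟩ :=
    (mem_compIdeal_iff V ⟨W, hW⟩ _).mpr ((X.basicOpen_le _).trans hWV)
  have h2 : (compIdeal V).ideal ⟨W, hW⟩ = ⊤ := (Ideal.eq_top_iff_one _).mpr h1
  have h3 : ((compIdeal V) ^ n).ideal ⟨W, hW⟩ = ⊤ := by
    rw [Scheme.IdealSheafData.ideal_pow, Pi.pow_apply, h2, Ideal.top_pow]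
  rw [h3, Submodule.top_smul]
  trivial

theorem isIso_restrict_idealMulι (V : X.Opens) (n : ℕ) (M : X.Modules) :
    IsIso ((Scheme.Modules.restrictFunctor V.ι).map (Dual3.idealMulι ((compIdeal V) ^ n) M)) := by
  refine K782.ProjAffine.isIso_of_affine _ fun W hW => ?_
  refine bijective_idealMulι V n M (V.ι ''ᵁ W) ?_ ?_
  · exact hW.image_of_isOpenImmersion _
  · exact (Scheme.Hom.image_mono _ le_top).trans (Scheme.Opens.ι_image_top V).le

theorem isCoh_of_isInvertible {L : X.Modules} (hL : PicF.IsInvertible L) : Coh.IsCoh L :=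
  Groth.Agent.PerfA.CohSerre.isCoh_of_isFinLocFree
    (Groth.Agent.Ega2.QCohLocal.isFinLocFree_of_rank (Groth.Agent.Ega2.QCohLocal.isFinLocFreeOfRank_one_iff.mpr hL))

theorem eval_restrict {U : Scheme.{u}} (j : U ⟶ X) [IsOpenImmersion j] {M' G M : X.Modules} (ι : M' ⟶ G)
    (ψ : M' ⟶ M) (φ : (Scheme.Modules.restrictFunctor j).obj G ⟶ (Scheme.Modules.restrictFunctor j).obj M)
    (h : (Scheme.Modules.restrictFunctor j).map ψ = (Scheme.Modules.restrictFunctor j).map ι ≫ φ)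
    (W : U.Opens) (z : Γ(M', j ''ᵁ W)) :
    toRestrict j (ψ.app (j ''ᵁ W) z) = φ.app W (toRestrict j (ι.app (j ''ᵁ W) z)) :=
  congr(($h).app W (toRestrict j z))

/-- A morphism over `V` extends to a form vanishing outside `V` after multiplication by a power of the
ideal. -/
theorem exists_form [IsNoetherian X] (V : X.Opens) {G : X.Modules} (hG : Coh.IsCoh G)
    (φ : (Scheme.Modules.restrictFunctor V.ι).obj G ⟶
      (Scheme.Modules.restrictFunctor V.ι).obj (Coh.structureModule X)) :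
    ∃ n : ℕ, ∀ (P : X.Modules) (κ : P ⟶ G), (∀ (W : X.affineOpens) (t : Γ(P, W.1)),
      κ.app W.1 t ∈ ((compIdeal V) ^ (n + 1)).ideal W • (⊤ : Submodule Γ(X, W.1) Γ(G, W.1))) →
      ∃ σ : P ⟶ Coh.structureModule X,
        (∀ (W : (V : Scheme.{u}).Opens) (t : Γ(P, V.ι ''ᵁ W)),
          toRestrict V.ι (σ.app (V.ι ''ᵁ W) t) = φ.app W (toRestrict V.ι (κ.app (V.ι ''ᵁ W) t))) ∧
        ∀ (W : X.affineOpens) (t : Γ(P, W.1)), X.basicOpen (ofFun.symm (σ.app W.1 t)) ≤ V := by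
  obtain ⟨n, ψ, hψ⟩ := Groth.Agent.Coherent.K47.DeligneHom.exists_extend (compIdeal V) V.ι
    (by rw [compl_support]; exact V.range_ι.symm) (Groth.Agent.Fdesc.StructMod.isCoh_structureModule X).1 hG φ
  refine ⟨n, fun P κ hκ => ?_⟩
  obtain ⟨l, hl⟩ := exists_lift κ hκ
  have hle : (compIdeal V) ^ (n + 1) ≤ (compIdeal V) ^ n :=
    Groth.Agent.Dual.H367.Kill.pow_le _ (Nat.le_succ n)
  have hιι : (l ≫ tr hle G) ≫ Dual3.idealMulι ((compIdeal V) ^ n) G = κ := by
    rw [Category.assoc, tr_ι]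
    exact hl
  refine ⟨(l ≫ tr hle G) ≫ ψ, fun W t => ?_, fun W t => ?_⟩
  · have h2 : (Dual3.idealMulι ((compIdeal V) ^ n) G).app (V.ι ''ᵁ W) ((l ≫ tr hle G).app (V.ι ''ᵁ W) t) =
        κ.app (V.ι ''ᵁ W) t := congr(($hιι).app (V.ι ''ᵁ W) t)
    rw [← h2]
    exact eval_restrict V.ι _ _ _ hψ W ((l ≫ tr hle G).app (V.ι ''ᵁ W) t)
  · refine (mem_compIdeal_iff V W _).mp ?_
    refine (mem_smul_top_iff _ _).mp ?_
    exact app_mem_smul ψ _ _ (tr_mem hG.1 n hle W (l.app W.1 t))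

/-- The form attached to a section of `B` and an isomorphism `G|_V ⊗ B ≅ O`. -/
theorem exists_form_pairing [IsNoetherian X] (V : X.Opens) {G : X.Modules} (hG : Coh.IsCoh G)
    {B : (V : Scheme.{u}).Modules} (hB : PicF.IsInvertible B)
    (s : Coh.structureModule (V : Scheme.{u}) ⟶ B) (hs : IsAffineOpen (CohB1.genLocus _ s))
    (e : CohB1.tensorMod (G.restrict V.ι) B ≅ Coh.structureModule (V : Scheme.{u})) :
    ∃ n : ℕ, ∀ (P : X.Modules) (κ : P ⟶ G), (∀ (W : X.affineOpens) (t : Γ(P, W.1)),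
      κ.app W.1 t ∈ ((compIdeal V) ^ (n + 1)).ideal W • (⊤ : Submodule Γ(X, W.1) Γ(G, W.1))) →
      ∃ σ : P ⟶ Coh.structureModule X,
        (∀ (W : X.affineOpens) (t : Γ(P, W.1)),
          X.basicOpen (ofFun.symm (σ.app W.1 t)) ≤ V.ι ''ᵁ CohB1.genLocus _ s) ∧
        (Function.Surjective (κ.app (V.ι ''ᵁ CohB1.genLocus _ s)) →
          ∃ p : Γ(P, V.ι ''ᵁ CohB1.genLocus _ s), σ.app _ p = one _) := by
  obtain ⟨n, hn⟩ := exists_form V hG (pairing s e ≫ (Groth.Agent.Dcoh.Restrict.restrictUnit V.ι).inv)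
  refine ⟨n, fun P κ hκ => ?_⟩
  obtain ⟨σ, hσ, hσV⟩ := hn P κ hκ
  have key2 : ∀ (W : (V : Scheme.{u}).Opens) (t : Γ(P, V.ι ''ᵁ W)),
      X.basicOpen (ofFun.symm (σ.app (V.ι ''ᵁ W) t)) ≤ V.ι ''ᵁ CohB1.genLocus _ s := by
    intro W t
    let a : Γ(V, W) := ofFun.symm ((pairing s e).app W (toRestrict V.ι (κ.app (V.ι ''ᵁ W) t)))
    have h1 : ofFun.symm (σ.app (V.ι ''ᵁ W) t) = (V.ι.appIso W).inv a :=
      congrArg (fun z => ofFun.symm ((toRestrict V.ι).symm z)) (hσ W t)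
    rw [h1, ← Scheme.image_basicOpen]
    exact Scheme.Hom.image_mono _ (basicOpen_pairing_le s e hB _)
  refine ⟨σ, ?_, fun hsurj => ?_⟩
  · intro W t x hx
    have hxW : x ∈ W.1 := X.basicOpen_le _ hx
    have hxV : x ∈ V := hσV W t hx
    let W' : (V : Scheme.{u}).Opens := V.ι ⁻¹ᵁ W.1
    have hW' : V.ι ''ᵁ W' ≤ W.1 := Scheme.Hom.image_preimage_le _ _
    have hxW' : x ∈ V.ι ''ᵁ W' := ⟨⟨x, hxV⟩, hxW, rfl⟩
    refine key2 W' (res _ hW' t) ?_
    have h1 : ofFun.symm (σ.app (V.ι ''ᵁ W') (res _ hW' t)) = ores hW' (ofFun.symm (σ.app W.1 t)) := by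
      rw [app_res]
      rfl
    rw [h1]
    change x ∈ X.basicOpen (X.presheaf.map (homOfLE hW').op (ofFun.symm (σ.app W.1 t)))
    rw [Scheme.basicOpen_res]
    exact ⟨hxW', hx⟩
  · obtain ⟨a, ha⟩ := exists_pairing_eq_one s e
      (Groth.Agent.CohqB.LocalQC.isCoh_restrict V.ι hG).1 (isCoh_of_isInvertible hB).1 hs
    obtain ⟨p, hp⟩ := hsurj ((toRestrict V.ι).symm a)
    refine ⟨p, ?_⟩
    apply (toRestrict V.ι).injective
    rw [hσ, hp, AddEquiv.apply_symm_apply]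
    have h3 : (pairing s e ≫ (Groth.Agent.Dcoh.Restrict.restrictUnit V.ι).inv).app (CohB1.genLocus _ s) a =
      (Groth.Agent.Dcoh.Restrict.restrictUnit V.ι).inv.app _ ((pairing s e).app _ a) := rfl
    rw [h3, ha]
    exact Groth.Agent.Dcoh.Restrict.restrictUnit_inv_app_one V.ι _

/-- The inverse of an invertible module on an open `V` extends to a coherent module such that a given
section of a power gives a linear form on the power of the extension. -/
theorem exists_coherent [IsNoetherian X] (V : X.Opens) {L : (V : Scheme.{u}).Modules}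
    (hL : PicF.IsInvertible L) (k : ℕ)
    (s : Coh.structureModule (V : Scheme.{u}) ⟶ CohB1.tensorPow L (k + 1))
    (hs : IsAffineOpen (CohB1.genLocus _ s)) :
    ∃ (F : X.Modules) (σ : CohB1.tensorPow F (k + 1) ⟶ Coh.structureModule X), Coh.IsCoh F ∧
      PicF.IsInvertible (F.restrict V.ι) ∧
      Nonempty (CohB1.tensorMod (F.restrict V.ι) L ≅ Coh.structureModule (V : Scheme.{u})) ∧
      (∀ (W : X.affineOpens) (t : Γ(CohB1.tensorPow F (k + 1), W.1)),
        X.basicOpen (ofFun.symm (σ.app W.1 t)) ≤ V.ι ''ᵁ CohB1.genLocus _ s) ∧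
      ∃ p : Γ(CohB1.tensorPow F (k + 1), V.ι ''ᵁ CohB1.genLocus _ s), σ.app _ p = one _ := by
  have hXV : IsLocallyNoetherian (V : Scheme.{u}) := inferInstance
  obtain ⟨N, hN, ⟨eN⟩⟩ := Groth.Agent.Grpsch.PicGrp.exists_inverse hL
  obtain ⟨F₀, hF₀, ⟨e₀⟩⟩ := Groth.Agent.Sga67.CohLoc.exists_extension V.ι N (isCoh_of_isInvertible hN)
  have hG : Coh.IsCoh (CohB1.tensorPow F₀ (k + 1)) := isCoh_tensorPow hF₀ (k + 1)
  have hB : PicF.IsInvertible (CohB1.tensorPow L (k + 1)) := isInvertible_tensorPow hL (k + 1)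
  obtain ⟨e⟩ : Nonempty (CohB1.tensorMod ((CohB1.tensorPow F₀ (k + 1)).restrict V.ι)
      (CohB1.tensorPow L (k + 1)) ≅ Coh.structureModule (V : Scheme.{u})) := by
    obtain ⟨e₁⟩ := Groth.Agent.Ega3B.TensRestrict.restrictPowIso V.ι F₀ (k + 1)
    exact ⟨Tens.mapTIso (e₁ ≪≫ TensPow.powIso e₀ (k + 1)) (Iso.refl _) ≪≫
      (TensPow.powTensor N L (k + 1)).symm ≪≫ TensPow.powIso (Tens.swap N L ≪≫ eN) (k + 1) ≪≫
        powUnit _ (k + 1)⟩
  obtain ⟨n, hn⟩ := exists_form_pairing V hG hB s hs e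
  have hF : Coh.IsCoh ((Dual3.idealMul ((compIdeal V) ^ (n + 1))).obj F₀) := isCoh_idealMul _ hF₀
  have hκ : ∀ (W : X.affineOpens)
      (t : Γ(CohB1.tensorPow ((Dual3.idealMul ((compIdeal V) ^ (n + 1))).obj F₀) (k + 1), W.1)),
      (TensPow.powMap (Dual3.idealMulι ((compIdeal V) ^ (n + 1)) F₀) (k + 1)).app W.1 t ∈
        ((compIdeal V) ^ (n + 1)).ideal W •
          (⊤ : Submodule Γ(X, W.1) Γ(CohB1.tensorPow F₀ (k + 1), W.1)) := by
    intro W t
    have h1 := mapT_mem (isCoh_tensorPow hF k).1 hF.1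
      (TensPow.powMap (Dual3.idealMulι ((compIdeal V) ^ (n + 1)) F₀) k)
      (Dual3.idealMulι ((compIdeal V) ^ (n + 1)) F₀) W.2 ⊤ (((compIdeal V) ^ (n + 1)).ideal W)
      (fun a => by rw [Submodule.top_smul]; trivial) (fun b => app_mem _ hF₀.1 W b) t
    rwa [Ideal.top_mul] at h1
  obtain ⟨σ, hσ, hσ1⟩ := hn _ _ hκ
  have h1 := isIso_restrict_idealMulι V (n + 1) F₀
  let e₄ : ((Dual3.idealMul ((compIdeal V) ^ (n + 1))).obj F₀).restrict V.ι ≅ F₀.restrict V.ι :=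
    @asIso _ _ _ _ ((Scheme.Modules.restrictFunctor V.ι).map
      (Dual3.idealMulι ((compIdeal V) ^ (n + 1)) F₀)) h1
  refine ⟨_, σ, hF, isInvertible_of_iso (e₄ ≪≫ e₀).symm hN,
    ⟨Tens.mapTIso (e₄ ≪≫ e₀) (Iso.refl L) ≪≫ Tens.swap N L ≪≫ eN⟩, hσ, hσ1 ?_⟩
  have hD : IsAffineOpen (V.ι ''ᵁ CohB1.genLocus _ s) := hs.image_of_isOpenImmersion _
  have hDV : V.ι ''ᵁ CohB1.genLocus _ s ≤ V :=
    (Scheme.Hom.image_mono _ le_top).trans (Scheme.Opens.ι_image_top V).le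
  exact powMap_surj hF₀ _ hD (bijective_idealMulι V (n + 1) F₀ _ hD hDV).2 (k + 1)

end K782.NegExt
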