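import Groth.Agent.ResProp.K782.NegExt
import Groth.Agent.FormalB.ModPowAff2
import Groth.Agent.Sga67.CohBasic
import Groth.Agent.FormalA.PullbackQC
import Groth.Agent.Ega3B.PullTensor

/-!
# Generation by the positive powers of a family of coherent modules
-/

set_option autoImplicit false
universe u
open CategoryTheory CategoryTheory.Limits AlgebraicGeometry Opposite TopologicalSpace
open Groth.Agent.Fdesc.LocGen Groth.Agent.Ega2

namespace K782.NegFinal

open K782.NegPow K782.NegExt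

variable {X : Scheme.{u}}

theorem exists_surj [IsNoetherian X] {ι : Type u} (F : ι → X.Modules) (hF : ∀ i, Coh.IsCoh (F i)) (k : ι → ℕ)
    (σ : ∀ i, CohB1.tensorPow (F i) (k i + 1) ⟶ Coh.structureModule X) (U : ι → X.Opens)
    (hU : ∀ i, IsAffineOpen (U i)) (hcov : ∀ x : X, ∃ i, x ∈ U i)
    (hσ : ∀ (i : ι) (W : X.affineOpens) (t : Γ(CohB1.tensorPow (F i) (k i + 1), W.1)),
      X.basicOpen (ofFun.symm ((σ i).app W.1 t)) ≤ U i)
    (hp : ∀ i, ∃ p : Γ(CohB1.tensorPow (F i) (k i + 1), U i), (σ i).app (U i) p = one (U i))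
    (M : X.Modules) (hM : Coh.IsCoh M) :
    ∃ (m : ℕ) (j : Fin m → ι) (n : Fin m → ℕ)
      (π : (∐ fun t : Fin m => CohB1.tensorPow (F (j t)) (n t + 1)) ⟶ M), Epi π := by
  classical
  obtain ⟨T, hT⟩ : ∃ T : Finset ι, ∀ x : X, ∃ i ∈ T, x ∈ U i := by
    obtain ⟨T, hT⟩ := isCompact_univ.elim_finite_subcover (fun i => (U i : Set X)) (fun i => (U i).isOpen)
      (fun x _ => Set.mem_iUnion.mpr (hcov x))
    refine ⟨T, fun x => ?_⟩
    obtain ⟨i, hi, hx⟩ := Set.mem_iUnion₂.mp (hT (Set.mem_univ x))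
    exact ⟨i, hi, hx⟩
  have hfin : ∀ i, ∃ S : Finset Γ(M, U i), Submodule.span Γ(X, U i) (S : Set Γ(M, U i)) = ⊤ := fun i =>
    (Groth.Agent.Sga67.CohBasic.finite_sections hM ⟨U i, hU i⟩).fg_top
  choose S hS using hfin
  choose p hp using hp
  have hex : ∀ (i : ι) (m : Γ(M, U i)), ∃ (n : ℕ) (π : CohB1.tensorPow (F i) (n + 1) ⟶ M)
      (q : Γ(CohB1.tensorPow (F i) (n + 1), U i)), π.app (U i) q = m := fun i m =>
    exists_hom (hF i) (Nat.succ_le_succ (Nat.zero_le _)) (σ i) (U i) (hσ i) (p i) (hp i) hM.1 m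
  choose n π q hπ using hex
  let K : Type u := Σ i : {i // i ∈ T}, {m // m ∈ S i.1}
  have : Finite K := inferInstance
  cases nonempty_fintype K
  let e := Fintype.equivFin K
  let j : Fin (Fintype.card K) → ι := fun t => (e.symm t).1.1
  let n' : Fin (Fintype.card K) → ℕ := fun t => n _ (e.symm t).2.1
  let E : Fin (Fintype.card K) → X.Modules := fun t => CohB1.tensorPow (F (j t)) (n' t + 1)
  let ψ : ∀ t, E t ⟶ M := fun t => π _ (e.symm t).2.1
  refine ⟨Fintype.card K, j, n', Sigma.desc ψ, ?_⟩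
  refine Groth.Agent.FormalB.ModPowAff2.epi_of_affine_cover hM.1 (Sigma.desc ψ) fun x => ?_
  obtain ⟨i, hi, hx⟩ := hT x
  refine ⟨U i, hx, hU i, ?_⟩
  let R : Submodule Γ(X, U i) Γ(M, U i) :=
    { carrier := Set.range ((Sigma.desc ψ).app (U i))
      add_mem' := by
        rintro _ _ ⟨a, rfl⟩ ⟨b, rfl⟩
        exact ⟨a + b, map_add _ _ _⟩
      zero_mem' := ⟨0, map_zero _⟩
      smul_mem' := by
        rintro r _ ⟨a, rfl⟩
        exact ⟨r • a, Scheme.Modules.Hom.app_smul _ _ _⟩ }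
  have hR : R = ⊤ := by
    rw [eq_top_iff, ← hS i, Submodule.span_le]
    intro m hm
    let κ : K := ⟨⟨i, hi⟩, ⟨m, hm⟩⟩
    have h1 : ∀ (κ : K), ∃ y : Γ(∐ E, U κ.1.1), (Sigma.desc ψ).app (U κ.1.1) y = κ.2.1 := by
      intro κ
      obtain ⟨t, rfl⟩ := e.symm.surjective κ
      refine ⟨(Sigma.ι E t).app _ (q _ (e.symm t).2.1), ?_⟩
      have h2 : Sigma.ι E t ≫ Sigma.desc ψ = ψ t := Sigma.ι_desc _ _
      have h3 := congr(($h2).app (U (e.symm t).1.1) (q _ (e.symm t).2.1))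
      exact h3.trans (hπ _ _)
    exact h1 κ
  intro m
  have : m ∈ R := by rw [hR]; trivial
  exact this

/-- The pullback of `F` is inverse to the pullback of `L` over the preimage of `V`. -/
theorem nonempty_pullback_tensor {Y : Scheme.{u}} (f : Y ⟶ X) (V : X.Opens) {F : X.Modules}
    {L : (V : Scheme.{u}).Modules} (hF : PicF.IsInvertible (F.restrict V.ι)) (hL : PicF.IsInvertible L)
    (e : CohB1.tensorMod (F.restrict V.ι) L ≅ Coh.structureModule (V : Scheme.{u})) {M : Y.Modules}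
    (eM : (Scheme.Modules.pullback (f ∣_ V)).obj L ≅ M.restrict (f ⁻¹ᵁ V).ι) :
    Nonempty (CohB1.tensorMod (((Scheme.Modules.pullback f).obj F).restrict (f ⁻¹ᵁ V).ι)
      (M.restrict (f ⁻¹ᵁ V).ι) ≅ Coh.structureModule (f ⁻¹ᵁ V : Scheme.{u})) := by
  obtain ⟨e₁⟩ := Groth.Agent.Ega3B.PullTensor.nonempty_pullUnitIso (f ∣_ V)
  exact ⟨Tens.mapTIso (Groth.Agent.FormalA.PullbackQC.restrictPullbackIso f V F) eM.symm ≪≫
    (Groth.Agent.Ega3B.PullTensor.pullTensorIso (f ∣_ V) hF hL).symm ≪≫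
      (Scheme.Modules.pullback (f ∣_ V)).mapIso e ≪≫ e₁⟩

end K782.NegFinal
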