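import Groth.Agent.Coherent.K47.DeligneHom
import Groth.Agent.Dual.H367.Kill
import Groth.Agent.Ega2.TensPow
import Groth.Agent.Ega1.TensorRestrict
import Groth.Agent.Dcoh.Restrict
import Groth.Agent.S2297
import Groth.Agent.Fdesc.StructMod

/-!
# Homomorphisms from tensor powers, ideals and products of sections
-/

set_option autoImplicit false
universe u
open CategoryTheory CategoryTheory.Limits AlgebraicGeometry Opposite TopologicalSpace
open Groth.Agent.Fdesc.LocGen Groth.Agent.Ega2

namespace K782.NegPow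

open Groth.Agent.FormalB.TrKQuot Groth.Agent.FormalB.KQuot Groth.Agent.Dual.H367.IdMul

variable {X : Scheme.{u}}

/-- A morphism whose sections over affine opens lie in `K · M` factors through `K · M`. -/
theorem exists_lift {K : X.IdealSheafData} {T M : X.Modules} (φ : T ⟶ M)
    (h : ∀ (W : X.affineOpens) (t : Γ(T, W.1)),
      φ.app W.1 t ∈ K.ideal W • (⊤ : Submodule Γ(X, W.1) Γ(M, W.1))) :
    ∃ l : T ⟶ (Dual3.idealMul K).obj M, l ≫ Dual3.idealMulι K M = φ := by
  have h0 : φ ≫ kπ K M = 0 := by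
    apply Groth.Agent.FormalB.SysSect.hom_eq_zero_of_affine
    intro W hW t
    exact app_eq_zero_of_mem (kπ K M) (killed_pushforward K _) ⟨W, hW⟩ _ (h ⟨W, hW⟩ t)
  exact ⟨kernel.lift _ φ h0, kernel.lift_ι _ _ _⟩

/-- Sections of a tensor product over an affine open are sums of pure tensors. -/
theorem tmul_induction {A B : X.Modules} (hA : Coh.IsQCoh A) (hB : Coh.IsQCoh B) {W : X.Opens}
    (hW : IsAffineOpen W) {P : Γ(CohB1.tensorMod A B, W) → Prop}
    (h1 : ∀ (a : Γ(A, W)) (b : Γ(B, W)), P (tmul a b)) (h2 : ∀ x y, P x → P y → P (x + y))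
    (t : Γ(CohB1.tensorMod A B, W)) : P t := by
  obtain ⟨z, rfl⟩ := (Groth.Agent.Ega1.TensorRestrict.bijective_toT A B hA hB hW).2 t
  induction z using TensorProduct.induction_on with
  | zero =>
    have h3 : Groth.Agent.Ega1.TensorRestrict.toT A B W 0 = tmul (0 : Γ(A, W)) (0 : Γ(B, W)) := by
      rw [map_zero]
      have h4 : tmul ((0 : Γ(X, W)) • (0 : Γ(A, W))) (0 : Γ(B, W)) = (0 : Γ(X, W)) • tmul (0 : Γ(A, W)) (0 : Γ(B, W)) :=
        smul_tmul _ _ _
      rw [zero_smul, zero_smul] at h4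
      exact h4.symm
    rw [h3]
    exact h1 0 0
  | tmul a b => exact h1 a b
  | add x y hx hy =>
    rw [map_add]
    exact h2 _ _ hx hy

/-- If `g` is divisible by the ideal `J` then so is `f ⊗ g`. -/
theorem mapT_mem {A B A' B' : X.Modules} (hA : Coh.IsQCoh A) (hB : Coh.IsQCoh B) (f : A ⟶ A') (g : B ⟶ B')
    {W : X.Opens} (hW : IsAffineOpen W) (I J : Ideal Γ(X, W))
    (hf : ∀ a : Γ(A, W), f.app W a ∈ I • (⊤ : Submodule Γ(X, W) Γ(A', W)))
    (hg : ∀ b : Γ(B, W), g.app W b ∈ J • (⊤ : Submodule Γ(X, W) Γ(B', W)))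
    (t : Γ(CohB1.tensorMod A B, W)) :
    (Tens.mapT f g).app W t ∈ (I * J) • (⊤ : Submodule Γ(X, W) Γ(CohB1.tensorMod A' B', W)) := by
  refine tmul_induction hA hB hW (P := fun t => (Tens.mapT f g).app W t ∈
    (I * J) • (⊤ : Submodule Γ(X, W) Γ(CohB1.tensorMod A' B', W))) (fun a b => ?_) (fun x y hx hy => ?_) t
  · rw [TensPow.mapT_tmul]
    refine Submodule.smul_induction_on (hf a) (fun r hr m _ => ?_) (fun x y hx hy => ?_)
    · refine Submodule.smul_induction_on (hg b) (fun s hs n _ => ?_) (fun x y hx hy => ?_)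
      · have h1 : tmul (r • m) (s • n) = (r * s) • tmul m n := by
          rw [smul_tmul, tmul_smul, mul_smul]
        rw [h1]
        exact Submodule.smul_mem_smul (Ideal.mul_mem_mul hr hs) trivial
      · have h1 : tmul (r • m) (x + y) = tmul (r • m) x + tmul (r • m) y :=
          tmul_add _ _ _
        rw [h1]
        exact add_mem hx hy
    · have h1 : tmul (x + y) (g.app W b) = tmul x (g.app W b) + tmul y (g.app W b) :=
        add_tmul _ _ _
      rw [h1]
      exact add_mem hx hy
  · have h1 : (Tens.mapT f g).app W (x + y) = (Tens.mapT f g).app W x + (Tens.mapT f g).app W y := map_add _ _ _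
    rw [h1]
    exact add_mem hx hy

/-- Surjectivity of the tensor product of surjective maps. -/
theorem mapT_surj {A B A' B' : X.Modules} (hA' : Coh.IsQCoh A') (hB' : Coh.IsQCoh B') (f : A ⟶ A')
    (g : B ⟶ B') {W : X.Opens} (hW : IsAffineOpen W) (hf : Function.Surjective (f.app W))
    (hg : Function.Surjective (g.app W)) : Function.Surjective ((Tens.mapT f g).app W) := by
  intro t
  refine tmul_induction hA' hB' hW (P := fun t => ∃ z, (Tens.mapT f g).app W z = t) (fun a b => ?_)
    (fun x y hx hy => ?_) t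
  · obtain ⟨a', rfl⟩ := hf a
    obtain ⟨b', rfl⟩ := hg b
    exact ⟨tmul a' b', TensPow.mapT_tmul _ _ _ _⟩
  · obtain ⟨z, rfl⟩ := hx
    obtain ⟨z', rfl⟩ := hy
    exact ⟨z + z', map_add _ _ _⟩

theorem isCoh_tensorMod {F G : X.Modules} (hF : Coh.IsCoh F) (hG : Coh.IsCoh G) :
    Coh.IsCoh (CohB1.tensorMod F G) := by
  have := hF.1
  have := hG.1
  exact ⟨(Groth.Agent.S2297.result F G).1, (Groth.Agent.S2297.result F G).2 hF.2 hG.2⟩

theorem isCoh_tensorPow {F : X.Modules} (hF : Coh.IsCoh F) :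
    ∀ n, Coh.IsCoh (CohB1.tensorPow F n)
  | 0 => Groth.Agent.Fdesc.StructMod.isCoh_structureModule X
  | n + 1 => isCoh_tensorMod (isCoh_tensorPow hF n) hF

theorem powMap_surj {F G : X.Modules} (hG : Coh.IsCoh G) (f : F ⟶ G) {W : X.Opens} (hW : IsAffineOpen W)
    (hf : Function.Surjective (f.app W)) (n : ℕ) : Function.Surjective ((TensPow.powMap f n).app W) := by
  induction n with
  | zero => exact fun t => ⟨t, rfl⟩
  | succ n ih => exact mapT_surj (isCoh_tensorPow hG n).1 hG.1 _ _ hW ih hf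

/-- The `n`-th power of a linear form. -/
noncomputable def formPow {P : X.Modules} (σ : P ⟶ Coh.structureModule X) :
    (n : ℕ) → (CohB1.tensorPow P n ⟶ Coh.structureModule X)
  | 0 => 𝟙 _
  | n + 1 => Tens.mapT (formPow σ n) σ ≫ (Tens.lunit (Coh.structureModule X)).hom

theorem lunit_mem {M : X.Modules} {W : X.Opens} (J : Ideal Γ(X, W))
    (t : Γ(CohB1.tensorMod (Coh.structureModule X) M, W))
    (ht : t ∈ J • (⊤ : Submodule Γ(X, W) Γ(CohB1.tensorMod (Coh.structureModule X) M, W))) :
    (Tens.lunit M).hom.app W t ∈ J • (⊤ : Submodule Γ(X, W) Γ(M, W)) := by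
  refine Submodule.smul_induction_on ht (fun r hr m _ => ?_) (fun x y hx hy => ?_)
  · rw [Scheme.Modules.Hom.app_smul]
    exact Submodule.smul_mem_smul hr trivial
  · rw [map_add]
    exact add_mem hx hy

theorem formPow_mem {P : X.Modules} (hP : Coh.IsCoh P) (σ : P ⟶ Coh.structureModule X) {W : X.Opens}
    (hW : IsAffineOpen W) (J : Ideal Γ(X, W))
    (hσ : ∀ p : Γ(P, W), σ.app W p ∈ J • (⊤ : Submodule Γ(X, W) Γ(Coh.structureModule X, W))) (n : ℕ)
    (t : Γ(CohB1.tensorPow P n, W)) :
    (formPow σ n).app W t ∈ (J ^ n) • (⊤ : Submodule Γ(X, W) Γ(Coh.structureModule X, W)) := by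
  induction n with
  | zero =>
    rw [pow_zero, Ideal.one_eq_top, Submodule.top_smul]
    trivial
  | succ n ih =>
    rw [pow_succ]
    exact lunit_mem _ _ (mapT_mem (isCoh_tensorPow hP n).1 hP.1 _ _ hW _ _ ih hσ t)

theorem formPow_pow {P : X.Modules} (σ : P ⟶ Coh.structureModule X) {W : X.Opens} (p : Γ(P, W))
    (hp : σ.app W p = one W) (n : ℕ) : (formPow σ n).app W (pow p n) = one W := by
  induction n with
  | zero => rfl
  | succ n ih =>
    have h1 : (Tens.mapT (formPow σ n) σ).app W (tmul (pow p n) p) = tmul (one W) (one W) := by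
      rw [TensPow.mapT_tmul, ih, hp]
    exact (congrArg ((Tens.lunit (Coh.structureModule X)).hom.app W) h1).trans (TensPow.lunit_tmul _)

/-- The reduced ideal of the complement of an open. -/
noncomputable def compIdeal (U : X.Opens) : X.IdealSheafData :=
  Scheme.IdealSheafData.vanishingIdeal ⟨(U : Set X)ᶜ, U.isOpen.isClosed_compl⟩

theorem compl_support (U : X.Opens) : (compIdeal U).supportSetᶜ = (U : Set X) := by
  have h1 : ((compIdeal U).support : Set X) = (U : Set X)ᶜ :=
    Scheme.IdealSheafData.coe_support_vanishingIdeal _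
  have h2 : (compIdeal U).supportSet = (U : Set X)ᶜ := h1
  rw [h2, compl_compl]

theorem mem_compIdeal_iff (U : X.Opens) (W : X.affineOpens) (a : Γ(X, W.1)) :
    a ∈ (compIdeal U).ideal W ↔ X.basicOpen a ≤ U := by
  constructor
  · intro ha x hx
    by_contra hxU
    have h1 : x ∈ (compIdeal U).supportSet := by
      rw [← compl_compl ((compIdeal U).supportSet), compl_support]
      exact hxU
    have h2 := (compIdeal U).supportSet_subset_zeroLocus W h1
    exact (Scheme.mem_zeroLocus_iff _ _ x).mp h2 a ha hx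
  · intro ha
    refine (PrimeSpectrum.mem_vanishingIdeal _ _).mpr fun x hx => ?_
    by_contra hxa
    have h1 : W.2.fromSpec x ∈ X.basicOpen a := by
      rw [← W.2.fromSpec_image_basicOpen]
      exact ⟨x, hxa, rfl⟩
    exact hx (ha h1)

theorem mem_smul_top_iff {W : X.Opens} (J : Ideal Γ(X, W)) (a : Γ(X, W)) :
    (ofFun a : Γ(Coh.structureModule X, W)) ∈ J • (⊤ : Submodule Γ(X, W) Γ(Coh.structureModule X, W)) ↔ a ∈ J := by
  constructor
  · intro h
    refine Submodule.smul_induction_on (p := fun x : Γ(Coh.structureModule X, W) => ofFun.symm x ∈ J) h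
      (fun r hr m _ => ?_) (fun x y hx hy => ?_)
    · exact J.mul_mem_right _ hr
    · rw [map_add]
      exact add_mem hx hy
  · intro h
    rw [ofFun_eq_smul]
    exact Submodule.smul_mem_smul h trivial

/-- The homomorphism on an open attached to a section. -/
theorem exists_restrict_hom (U : X.Opens) {M : X.Modules} (m : Γ(M, U)) :
    ∃ φ : (Scheme.Modules.restrictFunctor U.ι).obj (Coh.structureModule X) ⟶
      (Scheme.Modules.restrictFunctor U.ι).obj M,
      ∀ (W : (U : Scheme.{u}).Opens) (h : U.ι ''ᵁ W ≤ U),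
        φ.app W (toRestrict U.ι (one (U.ι ''ᵁ W))) = toRestrict U.ι (res M h m) := by
  have h0 : U.ι ''ᵁ ⊤ ≤ U := by rw [Scheme.Opens.ι_image_top]
  refine ⟨(Groth.Agent.Dcoh.Restrict.restrictUnit U.ι).hom ≫
    homOf (M := M.restrict U.ι) (toRestrict U.ι (res M h0 m)), fun W h => ?_⟩
  have h1 : (Groth.Agent.Dcoh.Restrict.restrictUnit U.ι).hom.app W (toRestrict U.ι (one (U.ι ''ᵁ W))) =
      (ofFun 1 : Γ(Coh.structureModule (U : Scheme.{u}), W)) :=
    Groth.Agent.Dcoh.Restrict.restrictUnit_hom_app_one U.ι W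
  refine (congrArg ((homOf (M := M.restrict U.ι) (toRestrict U.ι (res M h0 m))).app W) h1).trans ?_
  rw [homOf_app, one_smul, res_toRestrict, res_res]

/-- A quasi-coherent module receives homomorphisms from the positive powers of `F` which hit a given
section over `U`, if some power of `F` carries a linear form which vanishes outside `U` and takes the
value `1` over `U`. -/
theorem exists_hom [IsNoetherian X] {F : X.Modules} (hF : Coh.IsCoh F) {k : ℕ} (hk : 1 ≤ k)
    (σ : CohB1.tensorPow F k ⟶ Coh.structureModule X) (U : X.Opens)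
    (hσ : ∀ (W : X.affineOpens) (t : Γ(CohB1.tensorPow F k, W.1)),
      X.basicOpen (ofFun.symm (σ.app W.1 t)) ≤ U)
    (p : Γ(CohB1.tensorPow F k, U)) (hp : σ.app U p = one U) {M : X.Modules} (hM : Coh.IsQCoh M)
    (m : Γ(M, U)) :
    ∃ (n : ℕ) (π : CohB1.tensorPow F (n + 1) ⟶ M) (q : Γ(CohB1.tensorPow F (n + 1), U)),
      π.app U q = m := by
  obtain ⟨φ, hφ⟩ := exists_restrict_hom U m
  obtain ⟨n, ψ, hψ⟩ := Groth.Agent.Coherent.K47.DeligneHom.exists_extend (compIdeal U) U.ι
    (by rw [compl_support]; exact U.range_ι.symm) hM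
    (Groth.Agent.Fdesc.StructMod.isCoh_structureModule X) φ
  -- the form of degree `n + 1`
  have h1 : ∀ (W : X.affineOpens) (t : Γ(CohB1.tensorPow (CohB1.tensorPow F k) (n + 1), W.1)),
      (formPow σ (n + 1)).app W.1 t ∈ ((compIdeal U) ^ n).ideal W •
        (⊤ : Submodule Γ(X, W.1) Γ(Coh.structureModule X, W.1)) := by
    intro W t
    have h2 := formPow_mem (isCoh_tensorPow hF k) σ W.2 ((compIdeal U).ideal W) (fun p => by
      have h3 : σ.app W.1 p = ofFun (ofFun.symm (σ.app W.1 p)) := rfl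
      rw [h3]
      exact (mem_smul_top_iff _ _).mpr ((mem_compIdeal_iff U W _).mpr (hσ W p))) (n + 1) t
    have h4 : ((compIdeal U) ^ n).ideal W = (compIdeal U).ideal W ^ n := by
      rw [Scheme.IdealSheafData.ideal_pow, Pi.pow_apply]
    rw [h4]
    exact Submodule.smul_mono_left (Ideal.pow_le_pow_right (Nat.le_succ n)) h2
  obtain ⟨l, hl⟩ := exists_lift (formPow σ (n + 1)) h1
  let e := TensPow.powMul F k (n + 1)
  obtain ⟨c, hc⟩ : ∃ c, k * (n + 1) = c + 1 := ⟨k * (n + 1) - 1, by
    have : 1 ≤ k * (n + 1) := Nat.mul_pos hk (Nat.succ_pos n)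
    omega⟩
  let e' := TensPow.powCongr F hc
  let y : Γ(CohB1.tensorPow (CohB1.tensorPow F k) (n + 1), U) := pow p (n + 1)
  refine ⟨c, (e ≪≫ e').inv ≫ l ≫ ψ, (e ≪≫ e').hom.app U y, ?_⟩
  change ψ.app U (l.app U ((e ≪≫ e').inv.app U ((e ≪≫ e').hom.app U y))) = m
  rw [TensPow.symm_app_app]
  suffices h : ∀ z : Γ((Dual3.idealMul ((compIdeal U) ^ n)).obj (Coh.structureModule X), U),
      (Dual3.idealMulι ((compIdeal U) ^ n) (Coh.structureModule X)).app U z = one U → ψ.app U z = m by
    refine h _ ?_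
    have h5 := congr(($hl).app U y)
    exact h5.trans (formPow_pow σ p hp (n + 1))
  intro z hz
  -- evaluate the restricted equation
  have h6 : U.ι ''ᵁ ⊤ = U := Scheme.Opens.ι_image_top U
  have h7 := congr(($hψ).app ⊤ (toRestrict U.ι (res _ h6.le z)))
  have h8 : ((Scheme.Modules.restrictFunctor U.ι).map ψ).app ⊤ (toRestrict U.ι (res _ h6.le z)) =
      toRestrict U.ι (res M h6.le (ψ.app U z)) := by
    rw [← app_res]
    rfl
  have h9 : ((Scheme.Modules.restrictFunctor U.ι).map
      (Dual3.idealMulι ((compIdeal U) ^ n) (Coh.structureModule X)) ≫ φ).app ⊤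
        (toRestrict U.ι (res _ h6.le z)) = toRestrict U.ι (res M h6.le m) := by
    rw [← hφ ⊤ h6.le]
    change φ.app ⊤ (toRestrict U.ι ((Dual3.idealMulι ((compIdeal U) ^ n) (Coh.structureModule X)).app
      (U.ι ''ᵁ ⊤) (res _ h6.le z))) = _
    rw [app_res, hz, res_one]
  have h10 : toRestrict U.ι (res M h6.le (ψ.app U z)) = toRestrict U.ι (res M h6.le m) :=
    h8.symm.trans (h7.trans h9)
  have h11 := (toRestrict (M := M) U.ι).injective h10
  have h12 := congrArg (res M h6.ge) h11
  rwa [res_res, res_res, res_refl, res_refl] at h12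

end K782.NegPow
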