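import Groth.Agent.ResProp.K782.GlueInv
import Mathlib.AlgebraicGeometry.Morphisms.Finite

/-!
# Powers of functions which descend along a finite morphism
-/

set_option autoImplicit false
universe u
open CategoryTheory CategoryTheory.Limits AlgebraicGeometry Opposite TopologicalSpace
open Groth.Agent.Fdesc Groth.Agent.Fdesc.LocGen

namespace K782.PowRange

/-- The conductor of a ring homomorphism. -/
def cond {A B : Type*} [CommRing A] [CommRing B] (φ : A →+* B) : Ideal B where
  carrier := {x | ∀ b, x * b ∈ φ.range}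
  add_mem' {x y} hx hy b := by
    rw [add_mul]
    exact add_mem (hx b) (hy b)
  zero_mem' b := by
    rw [zero_mul]
    exact zero_mem _
  smul_mem' c x hx b := by
    have := hx (c * b)
    rwa [← mul_assoc, mul_comm x c] at this

theorem mem_radical_cond {A B : Type*} [CommRing A] [CommRing B] (φ : A →+* B) (hφ : φ.Finite) (a : A)
    (ha : ∀ b : B, ∃ r : ℕ, φ a ^ r * b ∈ φ.range) : φ a ∈ (cond φ).radical := by
  let := φ.toAlgebra
  have hfin : Module.Finite A B := hφ
  obtain ⟨s, hs⟩ := hfin.fg_top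
  choose r hr using ha
  let R := s.sup r
  refine ⟨R, fun b => ?_⟩
  have hb : b ∈ Submodule.span A (s : Set B) := by rw [hs]; trivial
  induction hb using Submodule.span_induction with
  | mem x hx =>
    have h1 : r x ≤ R := Finset.le_sup hx
    rw [← Nat.sub_add_cancel h1, pow_add, mul_assoc]
    exact mul_mem (pow_mem (RingHom.mem_range_self φ a) _) (hr x)
  | zero => rw [mul_zero]; exact zero_mem _
  | add x y _ _ hx hy => rw [mul_add]; exact add_mem hx hy
  | smul c x _ hx =>
    have : φ a ^ R * c • x = φ c * (φ a ^ R * x) := by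
      rw [Algebra.smul_def]
      change φ a ^ R * (φ c * x) = _
      ring
    rw [this]
    exact mul_mem (RingHom.mem_range_self φ c) hx

theorem exists_pow_mem_range {A B : Type*} [CommRing A] [CommRing B] (φ : A →+* B) (hφ : φ.Finite) (S : Set A)
    (hS : ∀ a ∈ S, ∀ b : B, ∃ r : ℕ, φ a ^ r * b ∈ φ.range) (h : B)
    (hh : h ∈ (Ideal.span (φ '' S)).radical) : ∃ N : ℕ, h ^ (N + 1) ∈ φ.range := by
  have h1 : Ideal.span (φ '' S) ≤ (cond φ).radical := by
    rw [Ideal.span_le]
    rintro _ ⟨a, ha, rfl⟩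
    exact mem_radical_cond φ hφ a (hS a ha)
  have h2 : h ∈ (cond φ).radical := by
    rw [← Ideal.radical_idem]
    exact Ideal.radical_mono h1 hh
  obtain ⟨N, hN⟩ := h2
  exact ⟨N, by rw [pow_succ]; exact hN h⟩

variable {Y V : Scheme.{u}}

/-- Along a finite morphism which is bijective on functions over `U`, some power of a function over the preimage of
an affine open which vanishes outside the preimage of `U` descends. -/
theorem exists_pow_app (f : Y ⟶ V) [IsFinite f] (U : V.Opens)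
    (hU : ∀ W : V.Opens, W ≤ U → Function.Bijective (f.app W)) (G : V.Opens) (hG : IsAffineOpen G)
    (h : Γ(Y, f ⁻¹ᵁ G)) (hh : Y.basicOpen h ≤ f ⁻¹ᵁ U) :
    ∃ (N : ℕ) (t : Γ(V, G)), f.app G t = h ^ (N + 1) := by
  have hG' : IsAffineOpen (f ⁻¹ᵁ G) := hG.preimage f
  suffices H : ∃ N : ℕ, h ^ (N + 1) ∈ (f.app G).hom.range by
    obtain ⟨N, t, ht⟩ := H
    exact ⟨N, t, ht⟩
  refine exists_pow_mem_range (f.app G).hom (IsFinite.finite_app f G hG)
    {a | V.basicOpen a ≤ U} (fun a (ha : V.basicOpen a ≤ U) b => ?_) h ?_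
  · obtain ⟨c, hc⟩ := (hU _ ha).2 (ores (f.preimage_mono (V.basicOpen_le a)) b)
    obtain ⟨n, a', ha'⟩ := exists_eq_pow_mul_of_isAffineOpen V G hG a c
    have ha'' : ores (V.basicOpen_le a) a' = ores (V.basicOpen_le a) a ^ n * c := ha'
    have h1 := congrArg (f.app _) ha''
    rw [map_mul, map_pow, K782.GlueInv.app_ores, K782.GlueInv.app_ores, hc, ← map_pow, ← map_mul,
      ← sub_eq_zero, ← map_sub] at h1
    obtain ⟨m, hm⟩ := exists_pow_mul_eq_zero_of_res_basicOpen_eq_zero_of_isCompact Y hG'.isCompact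
      (f.app G a' - f.app G a ^ n * b) (f.app G a) (by
        have h2 : Y.basicOpen (f.app G a) ≤ f ⁻¹ᵁ V.basicOpen a := by
          rw [Scheme.preimage_basicOpen]
        have h3 := congrArg (ores h2) h1
        rw [ores_ores, map_zero] at h3
        exact h3)
    refine ⟨m + n, a ^ m * a', ?_⟩
    rw [mul_sub, sub_eq_zero] at hm
    have h4 : (f.app G).hom (a ^ m * a') = f.app G a ^ m * f.app G a' := by
      rw [map_mul, map_pow]
    rw [h4, hm]
    ring
  · rw [Ideal.radical_eq_sInf, Ideal.mem_sInf]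
    rintro P ⟨hP, hP'⟩
    by_contra hhP
    let p : Spec Γ(Y, f ⁻¹ᵁ G) := (⟨P, hP'⟩ : PrimeSpectrum Γ(Y, f ⁻¹ᵁ G))
    have key : ∀ x : Γ(Y, f ⁻¹ᵁ G), hG'.fromSpec p ∈ Y.basicOpen x ↔ x ∉ P := by
      intro x
      have h1 := hG'.fromSpec_preimage_basicOpen x
      change p ∈ hG'.fromSpec ⁻¹ᵁ Y.basicOpen x ↔ _
      rw [h1]
      rfl
    have h2 : hG'.fromSpec p ∈ f ⁻¹ᵁ U := hh ((key h).2 hhP)
    have h3 : hG'.fromSpec p ∈ f ⁻¹ᵁ G := by
      have : hG'.fromSpec p ∈ hG'.fromSpec.opensRange := ⟨p, rfl⟩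
      rwa [hG'.opensRange_fromSpec] at this
    obtain ⟨a, haU, ha⟩ := hG.exists_basicOpen_le ⟨_, h2⟩ h3
    have h4 : hG'.fromSpec p ∈ Y.basicOpen (f.app G a) := by
      rw [← Scheme.preimage_basicOpen]
      exact ha
    exact (key _).1 h4 (hP (Ideal.subset_span ⟨a, haU, rfl⟩))

end K782.PowRange
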